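import Groth.Agent.SubmEffLib.GlueStage
import Groth.Agent.SubmDescLib.QAt
import Groth.Agent.DescFP.Main
import Groth.Agent.RichLib.LimitDescentFlat
import Groth.Agent.RichLib.LimitDescentProps

/-!
# Étale descent data descend along affine limits of morphisms
-/

set_option autoImplicit false
set_option linter.style.haveILetI false
set_option backward.isDefEq.respectTransparency false
set_option backward.isDefEq.respectTransparency.types false

universe u

open CategoryTheory CategoryTheory.Limits AlgebraicGeometry RichLib.LimBC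

noncomputable section

namespace SubmEffLib

open Desc DescLib

section mk

variable {X S Z : Scheme.{u}} {g : X ⟶ S} (π : Z ⟶ X) (c : pullback (π ≫ g) g ⟶ Z)
  (hc : c ≫ π = pullback.snd _ _)
  (hs : ∀ ⦃T : Scheme.{u}⦄ (a : T ⟶ Z), pullback.lift a (a ≫ π) (by simp) ≫ c = a)
  (hcp : ∀ ⦃T : Scheme.{u}⦄ (a : T ⟶ Z) (x₁ x₂ : T ⟶ X) (h₁ : a ≫ π ≫ g = x₁ ≫ g)
    (h₂ : a ≫ π ≫ g = x₂ ≫ g) (h₁₂ : (pullback.lift a x₁ h₁ ≫ c) ≫ π ≫ g = x₂ ≫ g),
    pullback.lift (pullback.lift a x₁ h₁ ≫ c) x₂ h₁₂ ≫ c = pullback.lift a x₂ h₂ ≫ c)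

/-- The gluing bijection of a gluing morphism. -/
def mkφ ⦃T : Scheme.{u}⦄ (x₀ x₁ : T ⟶ X) (h : x₀ ≫ g = x₁ ≫ g) (v : Lifts (Over.mk π) x₀) :
    Lifts (Over.mk π) x₁ :=
  ⟨pullback.lift v.1 x₁ (by rw [← h]; exact (Category.assoc _ _ _).symm.trans (congrArg (· ≫ g) v.2)) ≫ c,
    show (_ ≫ c) ≫ π = x₁ by rw [Category.assoc, hc, pullback.lift_snd]⟩

theorem lift_congr {T : Scheme.{u}} {a a' : T ⟶ Z} {x x' : T ⟶ X} {h : a ≫ π ≫ g = x ≫ g}
    {h' : a' ≫ π ≫ g = x' ≫ g} (ea : a = a') (ex : x = x') :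
    pullback.lift a x h = pullback.lift a' x' h' := by
  subst ea ex
  rfl

include hs in
theorem mkφ_self ⦃T : Scheme.{u}⦄ (x : T ⟶ X) (v : Lifts (Over.mk π) x) : mkφ π c hc x x rfl v = v :=
  Subtype.ext ((congrArg (· ≫ c) (lift_congr π rfl v.2.symm)).trans (hs v.1))

include hcp in
theorem mkφ_comp ⦃T : Scheme.{u}⦄ (x₀ x₁ x₂ : T ⟶ X) (h₀₁ : x₀ ≫ g = x₁ ≫ g) (h₁₂ : x₁ ≫ g = x₂ ≫ g)
    (v : Lifts (Over.mk π) x₀) :
    mkφ π c hc x₁ x₂ h₁₂ (mkφ π c hc x₀ x₁ h₀₁ v) = mkφ π c hc x₀ x₂ (h₀₁.trans h₁₂) v :=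
  Subtype.ext (hcp v.1 x₁ x₂ _ _ _)

/-- The descent datum of a gluing morphism. -/
def mkDD : SchDD g where
  obj := Over.mk π
  φ T x₀ x₁ h :=
    { toFun := mkφ π c hc x₀ x₁ h
      invFun := mkφ π c hc x₁ x₀ h.symm
      left_inv := fun v => (mkφ_comp π c hc hcp x₀ x₁ x₀ h h.symm v).trans (mkφ_self π c hc hs x₀ v)
      right_inv := fun v => (mkφ_comp π c hc hcp x₁ x₀ x₁ h.symm h v).trans (mkφ_self π c hc hs x₁ v) }
  φ_natural T T' t x₀ x₁ h h' v v' hv := by
    show pullback.lift v'.1 (t ≫ x₁) _ ≫ c = t ≫ pullback.lift v.1 x₁ _ ≫ c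
    rw [← Category.assoc t]
    congr 1
    apply pullback.hom_ext
    · simp [hv]
    · simp
  φ_self T x v := mkφ_self π c hc hs x v
  φ_comp T x₀ x₁ x₂ h₀₁ h₁₂ v := mkφ_comp π c hc hcp x₀ x₁ x₂ h₀₁ h₁₂ v

theorem rel_mkDD {T : Scheme.{u}} (a b : T ⟶ Z) (h : a ≫ π ≫ g = (b ≫ π) ≫ g)
    (e : pullback.lift a (b ≫ π) h ≫ c = b) : Rel (mkDD π c hc hs hcp) a b :=
  ⟨(Category.assoc _ _ _).trans h, e⟩

/-- The descent datum of a gluing morphism at a stage. -/
def GSys.datum {J : Type u} [SmallCategory J] [IsCofiltered J] {G : GSys J} {c' : G.P' ⟶ G.cW.pt} {j : J}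
    (K : G.GlueAt c' j) (hs : K.IsSelf) (hcp : K.IsComp) : SchDD (G.γ.app j) :=
  mkDD (G.ω.app j) K.c K.w hs hcp

/-- Related points at the limit give related points at the stage. -/
theorem GSys.rel_datum {J : Type u} [SmallCategory J] [IsCofiltered J] {G : GSys J} {c' : G.P' ⟶ G.cW.pt} {j : J}
    (hc' : c' ≫ G.π = pullback.snd _ _) (K : G.GlueAt c' j) (hs : K.IsSelf) (hcp : K.IsComp) {T : Scheme.{u}}
    (a b : T ⟶ G.cW.pt) (h : a ≫ G.π ≫ G.g = (b ≫ G.π) ≫ G.g) (e : pullback.lift a (b ≫ G.π) h ≫ c' = b) :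
    Rel (GSys.datum K hs hcp) (a ≫ G.cW.π.app j) (b ≫ G.cW.π.app j) := by
  have h' : (a ≫ G.cW.π.app j) ≫ G.ω.app j ≫ G.γ.app j = ((b ≫ G.cW.π.app j) ≫ G.ω.app j) ≫ G.γ.app j := by
    simp only [Category.assoc]
    rw [← Category.assoc (G.cW.π.app j), ← G.hπ, Category.assoc, ← G.hg, reassoc_of% h]
  refine rel_mkDD (G.ω.app j) K.c K.w hs hcp _ _ h' ?_
  conv_rhs => rw [← e, Category.assoc, ← K.compat]
  rw [← Category.assoc (pullback.lift a (b ≫ G.π) h)]
  congr 1
  apply pullback.hom_ext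
  · rw [pullback.lift_fst, Category.assoc]
    refine Eq.trans ?_ (congrArg (pullback.lift a (b ≫ G.π) h ≫ ·) (G.pπ_fst j)).symm
    rw [← Category.assoc, pullback.lift_fst]
  · rw [pullback.lift_snd, Category.assoc b, ← G.hπ, Category.assoc (pullback.lift a (b ≫ G.π) h)]
    refine Eq.trans ?_ (congrArg (pullback.lift a (b ≫ G.π) h ≫ ·) (G.pπ_snd j)).symm
    rw [← Category.assoc, ← Category.assoc, pullback.lift_snd]

/-- A quotient of a datum at a stage gives one at the limit. -/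
theorem exists_isQuot_of_model {X S X₁ S₁ : Scheme.{u}} {g : X ⟶ S} {γ₁ : X₁ ⟶ S₁} (D : SchDD g) (E : SchDD γ₁)
    (pW : D.obj.left ⟶ E.obj.left) (pX : X ⟶ X₁) (pS : S ⟶ S₁) (sq : IsPullback pW D.obj.hom E.obj.hom pX)
    (hg : g ≫ pS = pX ≫ γ₁)
    (hrel : ∀ ⦃T : Scheme.{u}⦄ (a b : T ⟶ D.obj.left), Rel D a b → Rel E (a ≫ pW) (b ≫ pW))
    (h : ∃ (U : Scheme.{u}) (v : U ⟶ S₁) (q : E.obj.left ⟶ U), Etale v ∧ IsQuot E (𝟙 _) v q) :
    ∃ (U : Scheme.{u}) (v : U ⟶ S) (q : D.obj.left ⟶ U), Etale v ∧ IsQuot D (𝟙 _) v q := by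
  obtain ⟨U, v, q, hv, hq⟩ := h
  have sqq : IsPullback q E.obj.hom v γ₁ := by simpa using hq.isPullback
  let q' : D.obj.left ⟶ pullback v pS := pullback.lift (pW ≫ q) (D.obj.hom ≫ g) (by
    rw [Category.assoc, Category.assoc, sqq.w, hg, reassoc_of% sq.w])
  refine ⟨_, pullback.snd v pS, q', MorphismProperty.pullback_snd (P := @Etale) v pS hv,
    ⟨fun T a b r => ?_, fun T a b _ => ⟨b, Category.comp_id b⟩, ?_⟩⟩
  · simp only [Category.comp_id] at r
    apply pullback.hom_ext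
    · simp only [q', Category.assoc, pullback.lift_fst]
      simp only [← Category.assoc]
      exact hq.rel (a ≫ pW) (b ≫ pW) (by simpa only [Category.comp_id] using hrel a b r)
    · simpa [q', Category.assoc] using r.1
  · rw [Category.id_comp]
    refine (IsPullback.of_right (h₁₂ := pullback.fst v pS) ?_ (pullback.lift_snd _ _ _)
      (IsPullback.of_hasPullback v pS))
    rw [pullback.lift_fst, hg]
    exact sq.paste_horiz sqq

end mk

variable {I : Type u} [SmallCategory I] [IsCofiltered I] {DX DS : I ⥤ Scheme.{u}} (γ : DX ⟶ DS)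
  (cX : Cone DX) (cS : Cone DS) (hcX : IsLimit cX) (hcS : IsLimit cS) (g : cX.pt ⟶ cS.pt)
  (hg : ∀ i, g ≫ cS.π.app i = cX.π.app i ≫ γ.app i)
  [∀ (i j : I) (f : i ⟶ j), IsAffineHom (DX.map f)] [∀ (i j : I) (f : i ⟶ j), IsAffineHom (DS.map f)]
  [∀ i, CompactSpace (DX.obj i)] [∀ i, QuasiSeparatedSpace (DX.obj i)] [∀ i, QuasiSeparatedSpace (DS.obj i)]

set_option maxHeartbeats 1000000 in
include hcX hcS hg in
/-- Effectivity of étale separated quasi-compact data at all stages gives effectivity at the limit. -/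
theorem exists_isQuot_of_stages (D : SchDD g) [Etale D.obj.hom] [IsSeparated D.obj.hom] [QuasiCompact D.obj.hom]
    (heff : ∀ (i : I) (E : SchDD (γ.app i)), Etale E.obj.hom → IsSeparated E.obj.hom → QuasiCompact E.obj.hom →
      ∃ (U : Scheme.{u}) (v : U ⟶ DS.obj i) (q : E.obj.left ⟶ U), Etale v ∧ IsQuot E (𝟙 _) v q) :
    ∃ (U : Scheme.{u}) (v : U ⟶ cS.pt) (q : D.obj.left ⟶ U), Etale v ∧ IsQuot D (𝟙 _) v q := by
  obtain ⟨i, ⟨M⟩⟩ := DescFP.exists_model hcX D.obj.hom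
  haveI := M.lfp
  haveI := M.qc
  haveI := M.qs
  haveI := M.compactSpace
  let A := ofStage DX cX hcX i
  have hlim : ∀ (P : MorphismProperty Scheme.{u}) [P.RespectsIso], P D.obj.hom → AtLim A M.p P := by
    intro P _ h
    show P (pullback.snd M.p (cX.π.app i))
    rw [← M.sq.isoPullback_inv_snd, MorphismProperty.cancel_left_of_respectsIso P]
    exact h
  obtain ⟨φ₁, h₁⟩ := exists_at_formallyUnramified A M.p (hlim @FormallyUnramified inferInstance)
  obtain ⟨φ₂, h₂⟩ := exists_at_flat A M.p (hlim @Flat inferInstance)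
  obtain ⟨φ₃, h₃⟩ := exists_at_isSeparated A M.p (hlim @IsSeparated inferInstance)
  let φ := IsCofiltered.min (IsCofiltered.min φ₁ φ₂) φ₃
  have hu : FormallyUnramified (pullback.snd M.p (DX.map φ.hom)) :=
    at_of_hom A M.p (IsCofiltered.minToLeft _ _ ≫ IsCofiltered.minToLeft _ _) h₁
  have hf : Flat (pullback.snd M.p (DX.map φ.hom)) :=
    at_of_hom A M.p (IsCofiltered.minToLeft _ _ ≫ IsCofiltered.minToRight _ _) h₂
  have hsep : IsSeparated (pullback.snd M.p (DX.map φ.hom)) :=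
    at_of_hom A M.p (IsCofiltered.minToRight _ _) h₃
  let M' := M.push φ.hom
  haveI := M'.lfp
  haveI := M'.qc
  haveI := M'.qs
  haveI := M'.compactSpace
  haveI := M'.quasiSeparatedSpace
  haveI : Flat M'.p := hf
  haveI : FormallyUnramified M'.p := hu
  haveI : Etale M'.p := Etale.of_formallyUnramified_of_flat _
  haveI : IsSeparated M'.p := hsep
  let o := φ.left
  let A₁ := ofStage DX cX hcX o
  let B₁ := ofStage DS cS hcS o
  let W : Over o ⥤ Scheme.{u} := pbD A₁ M'.p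
  let ω : W ⟶ A₁.D := pbSnd A₁ M'.p
  let cW : Cone W :=
    { pt := D.obj.left
      π :=
      { app := fun k => M'.sq.isoPullback.hom ≫ pbπ A₁ M'.p k
        naturality := fun k l a => by
          refine (Category.id_comp _).trans ?_
          rw [Category.assoc]
          exact congrArg (_ ≫ ·) (pbπ_map A₁ M'.p a).symm } }
  have hW : IsLimit cW := IsLimit.ofIsoLimit (pb A₁ M'.p).hc (Cone.ext M'.sq.isoPullback.symm (fun k => by
    show pbπ A₁ M'.p k = M'.sq.isoPullback.inv ≫ M'.sq.isoPullback.hom ≫ pbπ A₁ M'.p k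
    rw [Iso.inv_hom_id_assoc]))
  let G : GSys (Over o) :=
    { DX := A₁.D, DS := B₁.D, DW := W
      γ := Functor.whiskerLeft (Over.forget o) γ
      ω := ω
      cX := A₁.c, cS := B₁.c, cW := cW
      hX := A₁.hc, hS := B₁.hc, hW := hW
      g := g, π := D.obj.hom
      hg := fun k => hg k.left
      hπ := fun k => by
        show D.obj.hom ≫ A₁.c.π.app k = (M'.sq.isoPullback.hom ≫ pbπ A₁ M'.p k) ≫ pullback.snd M'.p (A₁.t k)
        rw [Category.assoc, pbπ_snd, ← Category.assoc]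
        congr 1
        exact M'.sq.isoPullback_hom_snd.symm
      affX := fun a => A₁.affine_map a
      affS := fun a => B₁.affine_map a
      affW := fun a => MorphismProperty.of_isPullback (P := @IsAffineHom) (isPullback_map A₁ M'.p a).flip
        (A₁.affine_map a)
      cpX := fun k => inferInstanceAs (CompactSpace (DX.obj k.left))
      qsX := fun k => inferInstanceAs (QuasiSeparatedSpace (DX.obj k.left))
      qsS := fun k => inferInstanceAs (QuasiSeparatedSpace (DS.obj k.left))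
      cpW := fun k => (pb A₁ M'.p).compactSpace_obj k
      qsW := fun k => (pb A₁ M'.p).quasiSeparatedSpace_obj k
      top := Over.mk (𝟙 o)
      htop := Over.mkIdTerminal
      lfp := MorphismProperty.pullback_snd (P := @LocallyOfFinitePresentation) _ _ M'.lfp
      sqW := fun a => isPullback_map A₁ M'.p a }
  -- the gluing morphism of the datum
  obtain ⟨c, hc, hr⟩ := exists_rel (D := D) (pullback.fst (D.obj.hom ≫ g) g) (pullback.snd _ _)
    (by rw [Category.assoc]; exact pullback.condition)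
  have hrel : ∀ {T : Scheme.{u}} (a : T ⟶ D.obj.left) (x : T ⟶ cX.pt) (h : a ≫ D.obj.hom ≫ g = x ≫ g),
      Rel D a (pullback.lift a x h ≫ c) := fun a x h => by
    have := hr.comp (pullback.lift a x h)
    rwa [pullback.lift_fst] at this
  have hcπ : ∀ {T : Scheme.{u}} (a : T ⟶ D.obj.left) (x : T ⟶ cX.pt) (h : a ≫ D.obj.hom ≫ g = x ≫ g),
      (pullback.lift a x h ≫ c) ≫ D.obj.hom = x := fun a x h => by
    rw [Category.assoc, hc, pullback.lift_snd]
  obtain ⟨j₃, K, hKs, hK₃⟩ := G.exists_glue hc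
    (((hrel (𝟙 _) D.obj.hom (Category.id_comp _)).eq ((Category.id_comp _).trans (hcπ _ _ _).symm)).symm)
    fun T a x₁ x₂ h₁ h₂ h₁₂ =>
    ((((hrel a x₁ h₁).trans (hrel _ x₂ h₁₂)).symm.trans (hrel a x₂ h₂))).eq
      ((hcπ _ _ _).trans (hcπ _ _ _).symm)
  let E : SchDD (γ.app j₃.left) := GSys.datum K hKs hK₃
  haveI : Etale E.obj.hom :=
    MorphismProperty.pullback_snd (P := @Etale) _ _ (inferInstanceAs (Etale M'.p))
  haveI : IsSeparated E.obj.hom :=
    MorphismProperty.pullback_snd (P := @IsSeparated) _ _ (inferInstanceAs (IsSeparated M'.p))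
  haveI : QuasiCompact E.obj.hom := MorphismProperty.pullback_snd (P := @QuasiCompact) _ _ M'.qc
  refine exists_isQuot_of_model D E (cW.π.app j₃) (cX.π.app j₃.left) (cS.π.app j₃.left) ?_ (hg j₃.left)
    (fun T a b r => ?_) (heff j₃.left E inferInstance inferInstance inferInstance)
  · exact (isPullback_cone A₁ M'.p j₃).of_iso M'.sq.isoPullback.symm (Iso.refl _) (Iso.refl _) (Iso.refl _)
      (by simp [cW]) (by simp; rfl) (by
        rw [Iso.refl_hom, Category.comp_id, Iso.refl_hom, Category.id_comp]; rfl)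
      (by rw [Iso.refl_hom, Category.comp_id, Iso.refl_hom, Category.id_comp]; rfl)
  · have hcond : a ≫ D.obj.hom ≫ g = (b ≫ D.obj.hom) ≫ g := by simpa only [Category.assoc] using r.1
    exact GSys.rel_datum (G := G) hc K hKs hK₃ a b hcond (((hrel a _ hcond).symm.trans r).eq (hcπ _ _ _))

end SubmEffLib
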