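import Groth.Agent.SubmEffLib.Noetherian
import Groth.Agent.SubmEffLib.Stage
import Groth.Agent.ConsLib.FGSystem
import Groth.Agent.FPColimLib.Algebra
import Groth.Agent.S14792

/-!
# Effective étale descent along quasi-compact universally subtrusive morphisms
-/

set_option autoImplicit false
set_option linter.style.haveILetI false
set_option backward.isDefEq.respectTransparency false
set_option backward.isDefEq.respectTransparency.types false

universe u

open CategoryTheory CategoryTheory.Limits AlgebraicGeometry Opposite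

noncomputable section

namespace SubmEffLib

open Desc DescLib SubmDescLib

/-- All étale separated quasi-compact descent data relative to `g` have étale quotients. -/
def EffQ {X S : Scheme.{u}} (g : X ⟶ S) : Prop :=
  ∀ D : SchDD g, Etale D.obj.hom → IsSeparated D.obj.hom → QuasiCompact D.obj.hom →
    ∃ (U : Scheme.{u}) (v : U ⟶ S) (q : D.obj.left ⟶ U), Etale v ∧ IsQuot D (𝟙 _) v q

theorem effQ_noetherian {X S : Scheme.{u}} [IsLocallyNoetherian S] (g : X ⟶ S) (hg : SGA1.UnivSubmersive g)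
    [LocallyOfFiniteType g] [QuasiCompact g] : EffQ g := fun D h₁ h₂ h₃ => by
  obtain ⟨U, -, -, hU, ⟨e⟩⟩ := effective_noetherian g hg D
  haveI : IsOpenImmersion (𝟙 D : D ⟶ D).hom.left := inferInstanceAs (IsOpenImmersion (𝟙 D.obj.left))
  obtain ⟨q, hq⟩ := exists_isQuot_of_hom (𝟙 D) e
  exact ⟨U.left, U.hom, q, hU, hq⟩

/-- Invariance under isomorphisms. -/
theorem EffQ.of_iso {X' S' X S : Scheme.{u}} {g' : X' ⟶ S'} (h : EffQ g') {g : X ⟶ S} (r : X' ⟶ X) (s : S' ⟶ S)
    [IsIso r] [IsIso s] (w : r ≫ g = g' ≫ s) : EffQ g := fun D h₁ h₂ h₃ => by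
  let E := pullDD D g' r s w
  refine exists_isQuot_of_model D E (inv (pullFst (D := D) (w := w))) (inv r) (inv s) ?_ ?_ (fun T a b hr => ?_)
    (h E (inferInstanceAs (Etale (pullback.snd D.obj.hom r))) (inferInstanceAs (IsSeparated (pullback.snd D.obj.hom r)))
      (inferInstanceAs (QuasiCompact (pullback.snd D.obj.hom r))))
  · exact IsPullback.of_horiz_isIso ⟨by rw [IsIso.inv_comp_eq, ← Category.assoc, pullFst_hom, Category.assoc,
      IsIso.hom_inv_id, Category.comp_id]⟩
  · rw [IsIso.eq_inv_comp, reassoc_of% w, IsIso.hom_inv_id, Category.comp_id]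
  · refine (rel_pull _ _).2 ⟨?_, by simpa only [Category.assoc, IsIso.inv_hom_id, Category.comp_id] using hr⟩
    rw [← cancel_mono s, ← hom_p_eq, ← hom_p_eq]
    simpa only [Category.assoc, IsIso.inv_hom_id_assoc] using hr.1

/-- A universally subtrusive morphism of finite presentation to an affine scheme. -/
theorem effQ_fp_affine (A : Type u) [CommRing A] {X : Scheme.{u}} (f : X ⟶ Spec (CommRingCat.of A))
    [LocallyOfFinitePresentation f] [QuasiCompact f] [QuasiSeparated f] (hf : Subtr.UnivSSubtrusive f) :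
    EffQ f := by
  obtain ⟨A₀, hA₀, X₀, f₀, q, sq, h₁, h₂, h₃, h₄⟩ := (Groth.Agent.S14792.result A f).1 hf
  haveI := h₁; haveI := h₂; haveI := h₃
  haveI : Algebra.FiniteType ℤ A₀ := ⟨(Subalgebra.fg_top A₀).mpr hA₀⟩
  haveI : IsNoetherianRing A₀ := Algebra.FiniteType.isNoetherianRing ℤ A₀
  let φ : CommRingCat.of A₀ ⟶ CommRingCat.of A := CommRingCat.ofHom A₀.val.toRingHom
  let S := ConsLib.homSys φ (Iso.refl (Spec (CommRingCat.of A₀)))
  let ε := ConsLib.homSysIso φ (Iso.refl (Spec (CommRingCat.of A₀)))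
  have hε : ε.inv ≫ S.s = Spec.map φ := (ConsLib.homSys_s φ _).trans (Category.comp_id _)
  let P := RichLib.LimBC.pb S f₀
  haveI : ∀ i j (a : i ⟶ j), IsAffineHom (S.D.map a) := fun _ _ a => S.affine_map a
  haveI : ∀ i j (a : i ⟶ j), IsAffineHom (P.D.map a) := fun _ _ a =>
    MorphismProperty.of_isPullback (P := @IsAffineHom) (RichLib.LimBC.isPullback_map S f₀ a).flip (S.affine_map a)
  haveI : ∀ i, QuasiSeparatedSpace (S.D.obj i) := S.quasiSeparatedSpace_obj
  haveI : ∀ i, CompactSpace (S.D.obj i) := S.compactSpace_obj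
  haveI : CompactSpace X₀ := QuasiCompact.compactSpace_of_compactSpace f₀
  haveI : QuasiSeparatedSpace X₀ := quasiSeparatedSpace_of_quasiSeparated f₀
  haveI : ∀ i, CompactSpace (P.D.obj i) := P.compactSpace_obj
  haveI : ∀ i, QuasiSeparatedSpace (P.D.obj i) := P.quasiSeparatedSpace_obj
  haveI : ∀ i j (a : i ⟶ j), IsAffineHom ((RichLib.LimBC.pbD S f₀).map a) :=
    fun i j a => inferInstanceAs (IsAffineHom (P.D.map a))
  haveI : ∀ i, CompactSpace ((RichLib.LimBC.pbD S f₀).obj i) := fun i => inferInstanceAs (CompactSpace (P.D.obj i))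
  haveI : ∀ i, QuasiSeparatedSpace ((RichLib.LimBC.pbD S f₀).obj i) :=
    fun i => inferInstanceAs (QuasiSeparatedSpace (P.D.obj i))
  have hS : EffQ (pullback.snd f₀ S.s) := fun D _ _ _ =>
    exists_isQuot_of_stages (RichLib.LimBC.pbSnd S f₀) (RichLib.LimBC.pbCone S f₀) S.c P.hc S.hc
      (pullback.snd f₀ S.s) (fun i => (RichLib.LimBC.pbπ_snd S f₀ i).symm) D fun i E e₁ e₂ e₃ => by
        haveI := ConsLib.homSys_lft φ (Iso.refl (Spec (CommRingCat.of A₀))) i
        haveI : IsLocallyNoetherian (S.D.obj i) := LocallyOfFiniteType.isLocallyNoetherian (S.t i)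
        haveI : LocallyOfFiniteType ((RichLib.LimBC.pbSnd S f₀).app i) :=
          inferInstanceAs (LocallyOfFiniteType (pullback.snd f₀ (S.t i)))
        haveI : QuasiCompact ((RichLib.LimBC.pbSnd S f₀).app i) :=
          inferInstanceAs (QuasiCompact (pullback.snd f₀ (S.t i)))
        exact effQ_noetherian _ (MorphismProperty.pullback_snd f₀ (S.t i) h₄) E e₁ e₂ e₃
  have sq' : IsPullback q (f ≫ ε.inv) f₀ S.s :=
    sq.of_iso (Iso.refl _) (Iso.refl _) ε.symm (Iso.refl _) (by simp) (by simp) (by simp)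
      (by rw [Iso.refl_hom, Category.comp_id, Iso.symm_hom, hε])
  refine hS.of_iso sq'.isoPullback.inv ε.hom ?_
  rw [← sq'.isoPullback_inv_snd, Category.assoc, Category.assoc, ε.inv_hom_id, Category.comp_id]

/-- A morphism of affine schemes all whose base changes are subtrusive. -/
theorem effQ_spec (A B : Type u) [CommRing A] [CommRing B] [Algebra A B]
    (hf : Subtr.UnivSSubtrusive (Spec.map (CommRingCat.ofHom (algebraMap A B)))) :
    EffQ (Spec.map (CommRingCat.ofHom (algebraMap A B))) := fun D _ _ _ => by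
  haveI : IsFiltered (FPColimLib.Stage A B) := inferInstance
  let J := (FPColimLib.Stage A B)ᵒᵖ
  haveI : IsConnected J := IsCofiltered.isConnected _
  let R : FPColimLib.Stage A B ⥤ CommRingCat.{u} :=
    FPColimLib.diagram (R := A) (A := B) ⋙ Under.forget (CommRingCat.of A)
  let cR : Cocone R := (Under.forget (CommRingCat.of A)).mapCocone (FPColimLib.cocone (R := A) (A := B))
  let DX : J ⥤ Scheme.{u} := R.op ⋙ Scheme.Spec
  let cX : Cone DX := Scheme.Spec.mapCone cR.op
  have hX : IsLimit cX := isLimitOfPreserves Scheme.Spec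
    (isColimitOfPreserves (Under.forget (CommRingCat.of A)) (FPColimLib.isColimit (R := A) (A := B))).op
  let S := Spec (CommRingCat.of A)
  let DS : J ⥤ Scheme.{u} := (Functor.const J).obj S
  let γ : DX ⟶ DS :=
    { app := fun j => Spec.map (FPColimLib.diagram.obj j.unop).hom
      naturality := fun j k a => by
        show Spec.map _ ≫ Spec.map _ = Spec.map _ ≫ 𝟙 _
        rw [Category.comp_id, ← Spec.map_comp]
        exact congrArg Spec.map (Under.w (FPColimLib.diagram.map a.unop)) }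
  haveI : ∀ j, IsAffine (DX.obj j) := fun j => inferInstanceAs (IsAffine (Spec (R.obj j.unop)))
  haveI : ∀ j k (a : j ⟶ k), IsAffineHom (DX.map a) := fun j k a => isAffineHom_of_isAffine _
  haveI : ∀ j k (a : j ⟶ k), IsAffineHom (DS.map a) := fun j k a => inferInstanceAs (IsAffineHom (𝟙 S))
  haveI : ∀ j, QuasiSeparatedSpace (DS.obj j) := fun j => inferInstanceAs (QuasiSeparatedSpace S)
  refine exists_isQuot_of_stages γ cX (constCone J S) hX (isLimitConstCone J S)
    (Spec.map (CommRingCat.ofHom (algebraMap A B))) (fun j => ?_) D fun j E e₁ e₂ e₃ => ?_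
  · show _ ≫ 𝟙 S = Spec.map _ ≫ Spec.map _
    rw [Category.comp_id, ← Spec.map_comp]
    exact congrArg Spec.map (Under.w (FPColimLib.cocone.ι.app j.unop)).symm
  · haveI : Algebra.FinitePresentation A (FPColimLib.Q j.unop) := Algebra.FinitePresentation.quotient ⟨_, rfl⟩
    let f' : Spec (CommRingCat.of (FPColimLib.Q j.unop)) ⟶ S :=
      Spec.map (CommRingCat.ofHom (algebraMap A (FPColimLib.Q j.unop)))
    haveI : LocallyOfFinitePresentation f' :=
      (HasRingHomProperty.Spec_iff (P := @LocallyOfFinitePresentation)).mpr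
        (RingHom.finitePresentation_algebraMap.mpr inferInstance)
    refine effQ_fp_affine A f' (VCovLib.univ_of_comp (cX.π.app j) f' ?_) E e₁ e₂ e₃
    have : cX.π.app j ≫ f' = Spec.map (CommRingCat.ofHom (algebraMap A B)) := by
      show Spec.map _ ≫ Spec.map _ = _
      rw [← Spec.map_comp]
      exact congrArg Spec.map (Under.w (FPColimLib.cocone.ι.app j.unop))
    rw [this]
    exact hf

theorem effQ_affine {X S : Scheme.{u}} [IsAffine X] [IsAffine S] (f : X ⟶ S) (hf : Subtr.UnivSSubtrusive f) :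
    EffQ f := by
  let φ : Γ(S, ⊤) →+* Γ(X, ⊤) := f.appTop.hom
  letI := φ.toAlgebra
  have e : Spec.map (CommRingCat.ofHom (algebraMap Γ(S, ⊤) Γ(X, ⊤))) = X.isoSpec.inv ≫ f ≫ S.isoSpec.hom := by
    rw [← Scheme.isoSpec_hom_naturality, Iso.inv_hom_id_assoc]
    rfl
  haveI : Subtr.UnivSSubtrusive.RespectsIso := (MorphismProperty.universally_respectsIso _)
  refine (effQ_spec Γ(S, ⊤) Γ(X, ⊤) ?_).of_iso X.isoSpec.inv S.isoSpec.inv ?_
  · rw [e, MorphismProperty.cancel_left_of_respectsIso Subtr.UnivSSubtrusive,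
      MorphismProperty.cancel_right_of_respectsIso Subtr.UnivSSubtrusive]
    exact hf
  · rw [e]
    simp

/-- Universally subtrusive morphisms compose. -/
theorem univSSubtrusive_comp {X Y Z : Scheme.{u}} {f : X ⟶ Y} {g : Y ⟶ Z} (hf : Subtr.UnivSSubtrusive f)
    (hg : Subtr.UnivSSubtrusive g) : Subtr.UnivSSubtrusive (f ≫ g) := by
  refine VCovLib.univ_of_valuation_surjective fun V _ _ s => ?_
  obtain ⟨W, _, _, _, a, b, hb, hab⟩ := (VCovLib.univSSubtrusive_iff_extension g).1 hg V s
  obtain ⟨W', _, h₁, h₂, a', b', hb', hab'⟩ := (VCovLib.univSSubtrusive_iff_extension f).1 hf W a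
  refine ⟨CommRingCat.of W', h₁, h₂, a', b' ≫ b, inferInstance, ?_⟩
  rw [reassoc_of% hab', Category.assoc]
  exact congrArg (b' ≫ ·) hab

theorem effQ_affine_base {X S : Scheme.{u}} [IsAffine S] (f : X ⟶ S) [QuasiCompact f]
    (hf : Subtr.UnivSSubtrusive f) : EffQ f := fun D h₁ h₂ h₃ => by
  haveI : CompactSpace X := QuasiCompact.compactSpace_of_compactSpace f
  let 𝒰 := X.affineCover.finiteSubcover
  let r : (∐ fun i => 𝒰.X i) ⟶ X := Sigma.desc 𝒰.f
  haveI : ∀ i, IsAffine (𝒰.X i) := fun i => inferInstanceAs (IsAffine (Spec _))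
  haveI : Surjective r := ⟨fun x => by
    obtain ⟨i, y, hy⟩ := 𝒰.exists_eq x
    exact ⟨(Sigma.ι (fun i => 𝒰.X i) i) y, by rw [← Scheme.Hom.comp_apply, Sigma.ι_desc]; exact hy⟩⟩
  haveI : Flat r := by
    refine IsZariskiLocalAtSource.of_openCover (P := @Flat) (sigmaOpenCover _) fun i => ?_
    change Flat (Sigma.ι (fun i => 𝒰.X i) i ≫ r)
    rw [Sigma.ι_desc]
    infer_instance
  have hp : Subtr.UnivSSubtrusive (r ≫ f) :=
    univSSubtrusive_comp (VCovLib.univ_of_flat_surjective r) hf
  haveI : QuasiCompact (r ≫ f) := inferInstance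
  refine exists_isQuot_of_refinement D (r ≫ f) r rfl (VCovLib.univSubmersive_of_univSSubtrusive _ hp)
    fun D' _ e₁ e₂ e₃ => effQ_affine (r ≫ f) hp D' e₁ (e₂ h₂) (e₃ h₃)

/-- Étale quotients for all data can be found locally on the base. -/
theorem exists_isQuot_of_affine_opens {X S : Scheme.{u}} {g : X ⟶ S} (hg : SGA1.UnivSubmersive g) (D : SchDD g)
    (h : ∀ W : S.Opens, IsAffineOpen W → ∀ E : SchDD (pullback.snd g W.ι),
      (Etale D.obj.hom → Etale E.obj.hom) → (IsSeparated D.obj.hom → IsSeparated E.obj.hom) →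
      (QuasiCompact D.obj.hom → QuasiCompact E.obj.hom) →
      ∃ (U : Scheme.{u}) (v : U ⟶ W.toScheme) (q : E.obj.left ⟶ U), Etale v ∧ IsQuot E (𝟙 _) v q) :
    ∃ (U : Scheme.{u}) (v : U ⟶ S) (q : D.obj.left ⟶ U), Etale v ∧ IsQuot D (𝟙 _) v q := by
  let D₀ := (SchDDFam.ofSchDD.{0} g).obj D
  have hE : HasEt (sdd D₀) (𝟙 S) := by
    refine hasEt_of_open_cover (fun y => ?_) hg
    obtain ⟨W, hW, hy, -⟩ := exists_isAffineOpen_mem_and_subset (X := S) (x := y) (U := ⊤) trivial
    obtain ⟨U, v, q, hv, hq⟩ := h W hW (sdd (pullFam D₀ W.ι))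
      (fun _ => MorphismProperty.pullback_snd (P := @Etale) (sdd D₀).obj.hom (pullback.fst g W.ι) ‹_›)
      (fun _ => MorphismProperty.pullback_snd (P := @IsSeparated) (sdd D₀).obj.hom (pullback.fst g W.ι) ‹_›)
      (fun _ => MorphismProperty.pullback_snd (P := @QuasiCompact) (sdd D₀).obj.hom (pullback.fst g W.ι) ‹_›)
    obtain ⟨q', hq'⟩ := qAt_of_isQuot hq
    exact ⟨W, hy, U, v, q', hv, hq'⟩
  obtain ⟨U, v, q, hv, hq⟩ := (effective_iff D₀ @Etale).1 ((effective_iff_qAt (D := D₀) @Etale).2 hE)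
  exact ⟨U, v, q, hv, hq⟩

/-- Étale separated quasi-compact descent data along quasi-compact universally subtrusive morphisms are
effective. -/
theorem effQ_subtrusive {X S : Scheme.{u}} (g : X ⟶ S) [QuasiCompact g] (hg : Subtr.UnivSSubtrusive g) :
    EffQ g := fun D h₁ h₂ h₃ =>
  exists_isQuot_of_affine_opens (VCovLib.univSubmersive_of_univSSubtrusive g hg) D fun W hW E e₁ e₂ e₃ => by
    haveI : IsAffine W.toScheme := hW
    haveI : Subtr.UnivSSubtrusive.{u}.IsStableUnderBaseChange := MorphismProperty.universally_isStableUnderBaseChange _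
    exact effQ_affine_base (pullback.snd g W.ι) (
      MorphismProperty.pullback_snd (P := Subtr.UnivSSubtrusive) g W.ι hg) E (e₁ h₁) (e₂ h₂) (e₃ h₃)

theorem univSSubtrusive_of_universallyClosed {X Y : Scheme.{u}} (f : X ⟶ Y) [UniversallyClosed f] [Surjective f] :
    Subtr.UnivSSubtrusive f := by
  refine VCovLib.univ_of_hasPairs fun V _ _ s => ?_
  let q := pullback.fst s f
  obtain ⟨x', hx'⟩ := q.surjective (VCovLib.gen V)
  have hc : IsClosed (q '' closure {x'}) := q.isClosedMap _ isClosed_closure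
  obtain ⟨x, hx, hqx⟩ := (VCovLib.gen_specializes_closed V).mem_closed hc ⟨x', subset_closure rfl, hx'⟩
  exact ⟨x', x, specializes_iff_mem_closure.2 hx, hx', hqx⟩

theorem univSSubtrusive_of_universallyOpen {X Y : Scheme.{u}} (f : X ⟶ Y) [UniversallyOpen f] [Surjective f]
    [QuasiCompact f] : Subtr.UnivSSubtrusive f := by
  refine VCovLib.univ_of_hasPairs fun V _ _ s => ?_
  let q := pullback.fst s f
  haveI : UniversallyOpen q := MorphismProperty.pullback_fst (P := @UniversallyOpen) s f inferInstance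
  obtain ⟨x, hx⟩ := q.surjective (VCovLib.closed V)
  let η : Spec (CommRingCat.of (FractionRing V)) ⟶ Spec V :=
    Spec.map (CommRingCat.ofHom (algebraMap V (FractionRing V)))
  have hη : Set.range η = {VCovLib.gen V} := by
    refine Set.eq_singleton_iff_unique_mem.2 ⟨⟨IsLocalRing.closedPoint _, ?_⟩, ?_⟩
    · exact PrimeSpectrum.ext (by
        show Ideal.comap (algebraMap V (FractionRing V)) (IsLocalRing.maximalIdeal _) = ⊥
        rw [IsLocalRing.maximalIdeal_eq_bot, ← RingHom.ker_eq_comap_bot,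
          (RingHom.injective_iff_ker_eq_bot _).1 (IsFractionRing.injective V (FractionRing V))])
    · rintro _ ⟨s, rfl⟩
      refine PrimeSpectrum.ext ?_
      show Ideal.comap (algebraMap V (FractionRing V)) s.asIdeal = ⊥
      rw [(Ideal.eq_bot_or_top s.asIdeal).resolve_right s.isPrime.ne_top, ← RingHom.ker_eq_comap_bot,
          (RingHom.injective_iff_ker_eq_bot _).1 (IsFractionRing.injective V (FractionRing V))]
  have hr : Set.range (pullback.fst q η) = q ⁻¹' {VCovLib.gen V} := by
    rw [Scheme.Pullback.range_fst, hη]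
  have hmem : x ∈ closure (q ⁻¹' {VCovLib.gen V}) := by
    rw [mem_closure_iff]
    intro O hO hxO
    obtain ⟨y, hy, hqy⟩ := (VCovLib.gen_specializes_closed V).mem_open (q.isOpenMap O hO) ⟨x, hxO, hx⟩
    exact ⟨y, hy, hqy⟩
  obtain ⟨x', hx', hx'x⟩ := Groth.Agent.ProConsLib.exists_specializes_of_mem_closure_sch
    (hr ▸ RichLib.LimTop.isProConstructible_range (pullback.fst q η)) hmem
  exact ⟨x', x, hx'x, hx', hx⟩

end SubmEffLib
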