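import Groth.Agent.SubmEffLib.General
import Groth.Agent.DescLib.Open
import Groth.Agent.ProperClopenLib.General

/-!
# Effective descent of separated étale schemes which need not be quasi-compact
-/

set_option autoImplicit false
set_option linter.style.haveILetI false
set_option backward.isDefEq.respectTransparency false
set_option backward.isDefEq.respectTransparency.types false

universe u

open CategoryTheory CategoryTheory.Limits AlgebraicGeometry TopologicalSpace Topology

noncomputable section

namespace SubmEffLib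

open Desc DescLib SubmDescLib

theorem isCompact_of_isConstructible {Z : Type u} [TopologicalSpace Z] [CompactSpace Z] {s : Set Z}
    (hs : IsConstructible s) : IsCompact s := by
  induction s, hs using BooleanSubalgebra.closure_sdiff_sup_induction with
  | isSublattice =>
    exact ⟨fun s hs t ht ↦ ⟨hs.1.union ht.1, hs.2.union ht.2⟩,
      fun s hs t ht ↦ ⟨hs.1.inter ht.1, hs.2.inter_isOpen ht.2 ht.1⟩⟩
  | bot_mem => exact ⟨isOpen_empty, .empty⟩
  | top_mem => exact ⟨isOpen_univ, .univ⟩
  | sdiff U hU V hV => exact hU.2.isCompact.diff hV.1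
  | sup s hs t ht hs' ht' => exact hs'.union ht'

variable {X S : Scheme.{u}} {g : X ⟶ S} (D : SchDD g)

/-- A stable quasi-compact open is good when quasi-compact data are effective. -/
theorem goodEt_of_isCompact [QuasiSeparatedSpace X] [Etale D.obj.hom] [IsSeparated D.obj.hom] (hg : EffQ g)
    (W : D.obj.left.Opens) (hW : IsCompact (W : Set D.obj.left)) (hst : Stable D (W : Set D.obj.left)) :
    GoodEt D W := by
  haveI : CompactSpace W.toScheme := isCompact_iff_compactSpace.mp hW
  refine goodEt_of_subDD D W hst (hg (subDD D W hst) ?_ ?_ ?_)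
  · exact inferInstanceAs (Etale (W.ι ≫ D.obj.hom))
  · exact inferInstanceAs (IsSeparated (W.ι ≫ D.obj.hom))
  · exact inferInstanceAs (QuasiCompact (W.ι ≫ D.obj.hom))

/-- Along a universally closed morphism of finite presentation every point has a stable quasi-compact
open neighbourhood. -/
theorem exists_stable_open_of_closed [UniversallyClosed g] [LocallyOfFinitePresentation g] [QuasiCompact g]
    [QuasiSeparated g] [QuasiSeparatedSpace D.obj.left] (v : D.obj.left) :
    ∃ W : D.obj.left.Opens, v ∈ W ∧ IsCompact (W : Set D.obj.left) ∧ Stable D (W : Set D.obj.left) := by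
  let P := pullback (D.obj.hom ≫ g) g
  let fst : P ⟶ D.obj.left := pullback.fst (D.obj.hom ≫ g) g
  let snd : P ⟶ X := pullback.snd (D.obj.hom ≫ g) g
  obtain ⟨d, hd, hdr⟩ := exists_rel fst snd (by rw [Category.assoc, pullback.condition])
  have hz : ∀ {T : Scheme.{u}} (a b : T ⟶ D.obj.left) (z : T ⟶ P),
      z ≫ fst = a → z ≫ snd = b ≫ D.obj.hom → Rel D a b → z ≫ d = b := by
    intro T a b z h₁ h₂ r
    have h := hdr.comp z
    rw [h₁] at h
    exact (h.symm.trans r).eq (by rw [Category.assoc, hd]; exact h₂)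
  let σ : P ⟶ P :=
    pullback.lift d (fst ≫ D.obj.hom) (by rw [← Category.assoc d, hd, Category.assoc]; exact pullback.condition.symm)
  have hσ₁ : σ ≫ fst = d := pullback.lift_fst _ _ _
  have hσ₂ : σ ≫ snd = fst ≫ D.obj.hom := pullback.lift_snd _ _ _
  have hσd : σ ≫ d = fst := hz d fst σ hσ₁ hσ₂ hdr.symm
  have hσσ : σ ≫ σ = 𝟙 _ := pullback.hom_ext
    (by change (σ ≫ σ) ≫ fst = 𝟙 _ ≫ fst; rw [Category.assoc, hσ₁, hσd, Category.id_comp])
    (by change (σ ≫ σ) ≫ snd = 𝟙 _ ≫ snd
        rw [Category.assoc, hσ₂, ← Category.assoc, hσ₁, hd, Category.id_comp])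
  haveI : IsIso σ := ⟨σ, hσσ, hσσ⟩
  haveI : UniversallyClosed fst := MorphismProperty.pullback_fst _ _ ‹_›
  haveI : LocallyOfFinitePresentation fst := MorphismProperty.pullback_fst _ _ ‹_›
  haveI : QuasiCompact fst := MorphismProperty.pullback_fst _ _ ‹_›
  haveI : QuasiSeparated fst := MorphismProperty.pullback_fst _ _ ‹_›
  haveI : QuasiSeparatedSpace P := quasiSeparatedSpace_of_quasiSeparated fst
  haveI : QuasiCompact d := by rw [← hσ₁]; infer_instance
  have horb : IsCompact (d '' (fst ⁻¹' {v})) := by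
    haveI : CompactSpace ↥(pullback fst (D.obj.left.fromSpecResidueField v)) :=
      QuasiCompact.compactSpace_of_compactSpace (pullback.snd fst (D.obj.left.fromSpecResidueField v))
    refine IsCompact.image ?_ d.continuous
    rw [show fst ⁻¹' {v} = Set.range (pullback.fst fst (D.obj.left.fromSpecResidueField v)) by
      rw [Scheme.Pullback.range_fst, Scheme.range_fromSpecResidueField]]
    exact isCompact_range (pullback.fst fst (D.obj.left.fromSpecResidueField v)).continuous
  obtain ⟨O, hO, hOorb, -⟩ := ProperClopenLib.exists_isCompact_open_between horb ⊤ (fun _ _ => trivial)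
  let bad : Set D.obj.left := fst '' (d ⁻¹' (O : Set D.obj.left)ᶜ)
  have hbad : IsClosed bad := fst.isClosedMap _ (O.2.isClosed_compl.preimage d.continuous)
  let W : D.obj.left.Opens := ⟨badᶜ, hbad.isOpen_compl⟩
  have hsub : (W : Set D.obj.left) ⊆ O := by
    intro x hx
    by_contra hxO
    let s := pullback.lift (f := D.obj.hom ≫ g) (g := g) (𝟙 D.obj.left) D.obj.hom (Category.id_comp _)
    have hs : s ≫ fst = 𝟙 _ := pullback.lift_fst _ _ _
    have hsd : s ≫ d = 𝟙 _ := hz _ _ s hs ((pullback.lift_snd _ _ _).trans (Category.id_comp _).symm) (Rel.refl _)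
    refine hx ⟨s x, ?_, by rw [← Scheme.Hom.comp_apply, hs]; rfl⟩
    show d (s x) ∉ O
    rw [← Scheme.Hom.comp_apply, hsd]
    exact hxO
  refine ⟨W, ?_, ?_, ?_⟩
  · rintro ⟨y, hy, hyv⟩
    exact hy (hOorb ⟨y, hyv, rfl⟩)
  · haveI : CompactSpace O.toScheme := isCompact_iff_compactSpace.mp hO
    haveI : QuasiSeparatedSpace O.toScheme := quasiSeparatedSpace_of_quasiSeparated O.ι
    let P₀ := fst ⁻¹ᵁ O
    let f₀ : P₀.toScheme ⟶ O.toScheme := fst ∣_ O
    haveI : LocallyOfFinitePresentation f₀ := IsZariskiLocalAtTarget.restrict (P := @LocallyOfFinitePresentation) ‹_› O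
    haveI : QuasiCompact f₀ := IsZariskiLocalAtTarget.restrict (P := @QuasiCompact) ‹_› O
    haveI : CompactSpace P₀.toScheme := QuasiCompact.compactSpace_of_compactSpace f₀
    haveI : QuasiSeparatedSpace P₀.toScheme := quasiSeparatedSpace_of_quasiSeparated P₀.ι
    haveI : QuasiCompact (P₀.ι ≫ d) := by
      haveI : QuasiCompact P₀.ι := inferInstance
      infer_instance
    let A : Set P₀.toScheme := (P₀.ι ≫ d) ⁻¹' (O : Set D.obj.left)
    have hA : IsOpen A := O.2.preimage (P₀.ι ≫ d).continuous
    have hAc : IsConstructible Aᶜ :=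
      (((P₀.ι ≫ d).isCompact_preimage hO).isConstructible hA).compl
    have hB : IsConstructible (f₀ '' Aᶜ)ᶜ := (f₀.isConstructible_image hAc).compl
    have heq : (W : Set D.obj.left) = O.ι '' (f₀ '' Aᶜ)ᶜ := by
      ext x
      constructor
      · intro hx
        refine ⟨⟨x, hsub hx⟩, ?_, rfl⟩
        rintro ⟨y, hy, hyx⟩
        refine hx ⟨P₀.ι y, ?_, ?_⟩
        · show d (P₀.ι y) ∉ O
          rw [← Scheme.Hom.comp_apply]
          exact hy
        · rw [← Scheme.Hom.comp_apply, ← morphismRestrict_ι, Scheme.Hom.comp_apply]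
          exact congrArg O.ι hyx
      · rintro ⟨x', hx', rfl⟩ ⟨y, hy, hyx⟩
        have hyP : y ∈ P₀ := show fst y ∈ O from hyx.symm ▸ x'.2
        refine hx' ⟨⟨y, hyP⟩, ?_, ?_⟩
        · show (P₀.ι ≫ d) ⟨y, hyP⟩ ∉ O
          rw [Scheme.Hom.comp_apply]
          exact hy
        · apply O.ι.isOpenEmbedding.injective
          rw [← Scheme.Hom.comp_apply, morphismRestrict_ι, Scheme.Hom.comp_apply]
          exact hyx
    rw [heq]
    exact (isCompact_of_isConstructible hB).image O.ι.continuous
  · intro T a b r t ht hbt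
    obtain ⟨y, hy, hyb⟩ := hbt
    obtain ⟨w, hw₁, hw₂⟩ := Scheme.Pullback.exists_preimage_pullback (f := b) (g := fst) t y hyb.symm
    let q₁ := pullback.fst b fst
    let q₂ := pullback.snd b fst
    have r₁ := r.comp q₁
    have r₂ := hdr.comp q₂
    rw [← pullback.condition] at r₂
    have r₁₂ := r₁.trans r₂
    let ρ := pullback.lift (f := D.obj.hom ≫ g) (g := g) (q₁ ≫ a) ((q₂ ≫ d) ≫ D.obj.hom)
      (by rw [← Category.assoc]; exact r₁₂.1)
    have hρd : ρ ≫ d = q₂ ≫ d := hz _ _ ρ (pullback.lift_fst _ _ _) (pullback.lift_snd _ _ _) r₁₂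
    refine ht ⟨ρ w, ?_, ?_⟩
    · show d (ρ w) ∉ O
      rw [← Scheme.Hom.comp_apply, hρd, Scheme.Hom.comp_apply, hw₂]
      exact hy
    · rw [← Scheme.Hom.comp_apply ρ fst, show ρ ≫ fst = q₁ ≫ a from pullback.lift_fst _ _ _,
        Scheme.Hom.comp_apply, hw₁]

/-- Separated étale descent data along universally closed surjective morphisms of finite presentation have
étale quotients. -/
theorem exists_isQuot_sep_closed [QuasiSeparatedSpace X] [UniversallyClosed g] [Surjective g]
    [LocallyOfFinitePresentation g] [QuasiCompact g] [QuasiSeparated g] [Etale D.obj.hom] [IsSeparated D.obj.hom] :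
    ∃ (U : Scheme.{u}) (v : U ⟶ S) (q : D.obj.left ⟶ U), Etale v ∧ IsQuot D (𝟙 _) v q := by
  haveI : QuasiSeparatedSpace D.obj.left := quasiSeparatedSpace_of_quasiSeparated D.obj.hom
  refine exists_isQuot_glue D (univSubmersive_of_universallyClosed_surjective g) fun v => ?_
  obtain ⟨W, hv, hW, hst⟩ := exists_stable_open_of_closed D v
  exact ⟨W, hv, goodEt_of_isCompact D (effQ_subtrusive g (univSSubtrusive_of_universallyClosed g)) W hW hst⟩

/-- Separated étale descent data along universally subtrusive morphisms of finite presentation with quasi-separated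
source have étale quotients. -/
theorem exists_isQuot_sep_subtrusive [LocallyOfFinitePresentation g] [QuasiCompact g] [QuasiSeparated g]
    (hg : Subtr.UnivSSubtrusive g) [Etale D.obj.hom] [IsSeparated D.obj.hom] :
    ∃ (U : Scheme.{u}) (v : U ⟶ S) (q : D.obj.left ⟶ U), Etale v ∧ IsQuot D (𝟙 _) v q := by
  refine exists_isQuot_of_affine_opens (VCovLib.univSubmersive_of_univSSubtrusive g hg) D fun W hW E e₁ e₂ _ => ?_
  haveI : IsAffine W.toScheme := hW
  haveI := e₁ inferInstance
  haveI := e₂ inferInstance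
  haveI : Subtr.UnivSSubtrusive.{u}.IsStableUnderBaseChange := MorphismProperty.universally_isStableUnderBaseChange _
  have hgW : Subtr.UnivSSubtrusive (pullback.snd g W.ι) :=
    MorphismProperty.pullback_snd (P := Subtr.UnivSSubtrusive) g W.ι hg
  obtain ⟨X', Y', h, p, q, -, hpq, hps, -, hloc, hq, hqs, hqf⟩ :=
    RzLib.exists_refinement_openCover_proper (pullback.snd g W.ι) hgW
  haveI := hps; haveI := hq; haveI := hqs; haveI := hqf
  have hu := VCovLib.univSubmersive_of_univSSubtrusive _ hgW
  refine exists_isQuot_of_hasEt E hu q (univSubmersive_of_universallyClosed_surjective q)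
    (hasEt_of_openCover_refinement E hu h p q hpq hloc) fun E' h₁ h₂ _ => ?_
  haveI : QuasiSeparatedSpace Y' := quasiSeparatedSpace_of_quasiSeparated q
  haveI := h₁; haveI := h₂
  exact exists_isQuot_sep_closed E'

/-- Separated étale descent data along universally open surjective morphisms with quasi-separated source have
étale quotients. -/
theorem exists_isQuot_sep_open [QuasiSeparatedSpace X] [UniversallyOpen g] [Surjective g] [Etale D.obj.hom]
    [IsSeparated D.obj.hom] :
    ∃ (U : Scheme.{u}) (v : U ⟶ S) (q : D.obj.left ⟶ U), Etale v ∧ IsQuot D (𝟙 _) v q := by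
  have hsub : ∀ {A B : Scheme.{u}} (f : A ⟶ B) [UniversallyOpen f] [Surjective f], SGA1.UnivSubmersive f := by
    intro A B f _ _ X' Y' i₁ i₂ a sq
    haveI : UniversallyOpen a := MorphismProperty.of_isPullback (P := @UniversallyOpen) sq.flip ‹_›
    haveI : Surjective a := MorphismProperty.of_isPullback (P := @Surjective) sq.flip ‹_›
    exact IsOpenMap.isQuotientMap (a.isOpenMap) a.continuous a.surjective
  refine exists_isQuot_of_affine_opens (hsub g) D fun W hW E e₁ e₂ _ => ?_
  haveI : IsAffine W.toScheme := hW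
  haveI := e₁ inferInstance
  haveI := e₂ inferInstance
  let gW := pullback.snd g W.ι
  haveI : UniversallyOpen gW := MorphismProperty.pullback_snd (P := @UniversallyOpen) _ _ ‹_›
  haveI : Surjective gW := MorphismProperty.pullback_snd (P := @Surjective) _ _ ‹_›
  haveI : QuasiSeparatedSpace ↥(pullback g W.ι) := quasiSeparatedSpace_of_quasiSeparated (pullback.fst g W.ι)
  choose V hV hxV _ using fun x : ↥(pullback g W.ι) =>
    exists_isAffineOpen_mem_and_subset (X := pullback g W.ι) (x := x) (U := ⊤) trivial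
  obtain ⟨t, ht⟩ := isCompact_univ.elim_finite_subcover (fun x : ↥(pullback g W.ι) => gW '' (V x : Set _))
    (fun x => gW.isOpenMap _ (V x).2) fun y _ => by
      obtain ⟨x, rfl⟩ := gW.surjective y
      exact Set.mem_iUnion.2 ⟨x, x, hxV x, rfl⟩
  let X₁ : (pullback g W.ι).Opens := ⟨⋃ x ∈ t, (V x : Set _), isOpen_biUnion fun x _ => (V x).2⟩
  haveI : CompactSpace X₁.toScheme :=
    isCompact_iff_compactSpace.mp (t.finite_toSet.isCompact_biUnion fun x _ => (hV x).isCompact)
  let p' := X₁.ι ≫ gW
  haveI : Surjective p' := ⟨fun y => by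
    obtain ⟨x, hx, z, hz, rfl⟩ := Set.mem_iUnion₂.1 (ht (Set.mem_univ y))
    exact ⟨⟨z, Set.mem_iUnion₂.2 ⟨x, hx, hz⟩⟩, by rw [Scheme.Hom.comp_apply]; rfl⟩⟩
  haveI : QuasiCompact p' := inferInstance
  haveI : UniversallyOpen p' := inferInstance
  refine exists_isQuot_of_refinement E p' X₁.ι rfl (hsub p') fun E' _ h₁ h₂ _ => ?_
  haveI := h₁; haveI := h₂ inferInstance
  haveI : QuasiSeparatedSpace X₁.toScheme := quasiSeparatedSpace_of_quasiSeparated X₁.ι
  refine exists_isQuot_glue E' (hsub p') fun v => ?_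
  obtain ⟨O, hO, hv, -⟩ := exists_isAffineOpen_mem_and_subset (X := E'.obj.left) (x := v) (U := ⊤) trivial
  obtain ⟨W', hle, hW', hst⟩ := exists_stable_open E' O hO.isCompact
  exact ⟨W', hle hv, goodEt_of_isCompact E' (effQ_subtrusive p' (univSSubtrusive_of_universallyOpen p')) W' hW' hst⟩

end SubmEffLib
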