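import Groth.Agent.SubmEffLib.Descend
import Groth.Agent.SubmDescLib.GlueOpen
import Groth.Agent.SubmDescLib.GlueStable
import Groth.Agent.SubmDescLib.Completion
import Groth.Agent.SubmDescLib.Refine
import Groth.Agent.VCovLib.Subtr

/-!
# Étale descent data: base changes with quotients, restriction to stable opens
-/

set_option autoImplicit false
set_option linter.style.haveILetI false
set_option backward.isDefEq.respectTransparency false
set_option backward.isDefEq.respectTransparency.types false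

universe u

open CategoryTheory CategoryTheory.Limits AlgebraicGeometry TopologicalSpace

namespace SubmEffLib

open Desc DescLib SubmDescLib

variable {X S : Scheme.{u}} {g : X ⟶ S} (D : SchDD g)

/-- After base change along the morphism itself, the underlying scheme is the quotient. -/
theorem exists_qAt_self : ∃ q : Pt D g ⟶ D.obj.left, QAt D g D.obj.hom q := by
  obtain ⟨c, hc, hr⟩ := exists_rel (pullback.fst (D.obj.hom ≫ g) g) (pullback.snd _ _)
    (by rw [Category.assoc]; exact pullback.condition)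
  have hrel : ∀ {T : Scheme.{u}} (a : T ⟶ Pt D g), Rel D (a ≫ pullback.fst _ _) (a ≫ c) := fun a => hr.comp a
  refine ⟨c, hc, fun T a b e r => ?_, IsPullback.mk ⟨?_⟩ ⟨PullbackCone.isLimitAux' _ fun s => ?_⟩⟩
  · exact ((hrel a).symm.trans (r.trans (hrel b))).eq (by simp only [Category.assoc, hc]; exact e)
  · rw [reassoc_of% hc, Category.assoc]
    exact pullback.condition.symm
  · have hex := exists_rel (D := D) s.fst s.snd (by rw [Category.assoc]; exact s.condition)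
    let e := hex.choose
    have he : e ≫ D.obj.hom = s.snd := hex.choose_spec.1
    have her : Rel D s.fst e := hex.choose_spec.2
    let l : s.pt ⟶ Pt D g := pullback.lift e (s.fst ≫ D.obj.hom) (by
      rw [← Category.assoc, he, Category.assoc]; exact s.condition.symm)
    have hl₁ : l ≫ pullback.fst _ _ = e := pullback.lift_fst _ _ _
    have hl₂ : l ≫ pullback.snd _ _ = s.fst ≫ D.obj.hom := pullback.lift_snd _ _ _
    refine ⟨l, ?_, ?_, fun {m} h₁ h₂ => ?_⟩
    · refine (((hrel l).symm.trans ((congrArg (fun z => Rel D z s.fst) hl₁).mpr her.symm)).eq ?_)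
      rw [Category.assoc, hc, hl₂]
    · show l ≫ pullback.fst _ _ ≫ D.obj.hom = _
      rw [← Category.assoc, hl₁, he]
    · have h₁' : m ≫ c = s.fst := h₁
      have h₂' : (m ≫ pullback.fst _ _) ≫ D.obj.hom = s.snd := (Category.assoc _ _ _).trans h₂
      apply pullback.hom_ext
      · rw [hl₁]
        refine ((hrel m).trans ((congrArg (fun z => Rel D z e) h₁').mpr her)).eq ?_
        rw [h₂', he]
      · exact ((congrArg (m ≫ ·) hc.symm).trans (Category.assoc m c D.obj.hom).symm).trans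
          ((congrArg (· ≫ D.obj.hom) h₁').trans hl₂.symm)

theorem hasEt_self [Etale D.obj.hom] : HasEt D g := by
  obtain ⟨q, hq⟩ := exists_qAt_self D
  exact ⟨_, D.obj.hom, q, inferInstance, hq⟩

/-- Having an étale quotient is local on the base change. -/
theorem hasEt_of_local (hg : SGA1.UnivSubmersive g) {T : Scheme.{u}} (t : T ⟶ S)
    (h : ∀ y : T, ∃ W : T.Opens, y ∈ W ∧ HasEt D (W.ι ≫ t)) : HasEt D t := by
  let D₀ := (SchDDFam.ofSchDD.{0} g).obj D
  have h' : HasEt (sdd (pullFam D₀ t)) (𝟙 T) := by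
    refine hasEt_of_open_cover (fun y => ?_) (MorphismProperty.pullback_snd g t hg)
    obtain ⟨W, hy, U, v, q, hv, hq⟩ := h y
    obtain ⟨q', hq'⟩ := qAt_pullFam (D := D₀) t W.ι rfl hq
    exact ⟨W, hy, U, v, q', hv, hq'⟩
  exact (effective_pull_iff (D := D₀) (s := t) @Etale).1 ((effective_iff_qAt (D := pullFam D₀ t) @Etale).2 h')

/-- A morphism which is Zariski locally on its source a lift of `g` carries an étale quotient. -/
theorem hasEt_of_openCover_refinement [Etale D.obj.hom] (hg : SGA1.UnivSubmersive g) {X' Y' : Scheme.{u}}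
    (h : X' ⟶ X) (p : X' ⟶ Y') (q : Y' ⟶ S) (w : h ≫ g = p ≫ q) [Surjective p]
    (hloc : ∀ x : X', ∃ U : X'.Opens, x ∈ U ∧ IsOpenImmersion (U.ι ≫ p)) : HasEt D q := by
  refine hasEt_of_local D hg q fun y => ?_
  obtain ⟨x, rfl⟩ := p.surjective y
  obtain ⟨U, hx, hU⟩ := hloc x
  haveI := hU
  let W := (U.ι ≫ p).opensRange
  let e := (IsOpenImmersion.isoOfRangeEq W.ι (U.ι ≫ p) (by rw [Scheme.Opens.range_ι]; rfl))
  refine ⟨W, ⟨⟨x, hx⟩, by rw [Scheme.Hom.comp_apply]; rfl⟩, (hasEt_self D).comp (e.hom ≫ U.ι ≫ h) _ ?_⟩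
  rw [← IsOpenImmersion.isoOfRangeEq_hom_fac W.ι (U.ι ≫ p) (by rw [Scheme.Opens.range_ι]; rfl)]
  simp only [Category.assoc, w]
  rfl

/-- Effectivity from effectivity along a universally submersive base change carrying a quotient. -/
theorem exists_isQuot_of_hasEt (hg : SGA1.UnivSubmersive g) [Etale D.obj.hom] [IsSeparated D.obj.hom]
    {T : Scheme.{u}} (t : T ⟶ S) (ht : SGA1.UnivSubmersive t) (h : HasEt D t)
    (heff : ∀ E : SchDD t, Etale E.obj.hom → IsSeparated E.obj.hom →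
      (QuasiCompact g → QuasiCompact D.obj.hom → QuasiCompact E.obj.hom) →
      ∃ (U : Scheme.{u}) (v : U ⟶ S) (q : E.obj.left ⟶ U), Etale v ∧ IsQuot E (𝟙 _) v q) :
    ∃ (U : Scheme.{u}) (v : U ⟶ S) (q : D.obj.left ⟶ U), Etale v ∧ IsQuot D (𝟙 _) v q := by
  obtain ⟨U₁, v₁, q₁, hv, hq₁⟩ := h
  let D₀ := (SchDDFam.ofSchDD.{0} g).obj D
  haveI := hv
  haveI : IsSeparated (sdd D₀).obj.hom := ‹IsSeparated D.obj.hom›
  haveI : IsSeparated v₁ := isSeparated_quot (D := D₀) hg hq₁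
  haveI := surjective_of_univSubmersive (hq₁.univSubmersive hg)
  refine exists_isQuot_of_eff D t ht hg hq₁ fun E hE => ?_
  refine heff E (by rw [hE]; exact ‹Etale v₁›) (by rw [hE]; exact ‹IsSeparated v₁›) fun _ _ => ?_
  haveI : QuasiCompact (q₁ ≫ v₁) := by rw [hq₁.w]; infer_instance
  rw [hE]
  exact quasiCompact_of_surjective_comp q₁ v₁

variable {D}

/-- An étale quotient of a separated datum gives effectivity. -/
theorem effective_sep (hg : SGA1.UnivSubmersive g) [IsSeparated D.obj.hom]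
    (h : ∃ (U : Scheme.{u}) (v : U ⟶ S) (q : D.obj.left ⟶ U), Etale v ∧ IsQuot D (𝟙 _) v q) :
    ∃ U : Over S, IsSeparated U.hom ∧ Etale U.hom ∧ Nonempty ((Desc.toDD g).obj U ≅ D) := by
  obtain ⟨U, v, q, hv, hq⟩ := h
  have sq : IsPullback q D.obj.hom v g := by simpa using hq.isPullback
  exact ⟨Over.mk v, FFDescLib.isSeparated_of_isPullback sq.flip hg, hv, iso_of_isQuot hq⟩

/-- An étale quotient of a separated quasi-compact datum gives effectivity. -/
theorem effective_sepqc (hg : SGA1.UnivSubmersive g) [QuasiCompact g] [QuasiCompact D.obj.hom]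
    [IsSeparated D.obj.hom]
    (h : ∃ (U : Scheme.{u}) (v : U ⟶ S) (q : D.obj.left ⟶ U), Etale v ∧ IsQuot D (𝟙 _) v q) :
    ∃ U : Over S, QuasiCompact U.hom ∧ IsSeparated U.hom ∧ Etale U.hom ∧
      Nonempty ((Desc.toDD g).obj U ≅ D) := by
  obtain ⟨U, v, q, hv, hq⟩ := h
  have sq : IsPullback q D.obj.hom v g := by simpa using hq.isPullback
  haveI := surjective_of_univSubmersive (MorphismProperty.of_isPullback (P := SGA1.UnivSubmersive) sq.flip hg)
  haveI : QuasiCompact (q ≫ v) := by rw [sq.w]; infer_instance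
  exact ⟨Over.mk v, quasiCompact_of_surjective_comp q v, FFDescLib.isSeparated_of_isPullback sq.flip hg, hv,
    iso_of_isQuot hq⟩

variable (D)

/-- A quotient after a universally submersive refinement gives a quotient. -/
theorem exists_isQuot_of_refinement [Etale D.obj.hom] {X' : Scheme.{u}} (p' : X' ⟶ S) (r : X' ⟶ X)
    (w : r ≫ g = p') (hp' : SGA1.UnivSubmersive p')
    (h : ∀ D' : SchDD p', D'.obj.left = pullback D.obj.hom r → Etale D'.obj.hom →
      (IsSeparated D.obj.hom → IsSeparated D'.obj.hom) → (QuasiCompact D.obj.hom → QuasiCompact D'.obj.hom) →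
      ∃ (U : Scheme.{u}) (v : U ⟶ S) (q : D'.obj.left ⟶ U), Etale v ∧ IsQuot D' (𝟙 _) v q) :
    ∃ (U : Scheme.{u}) (v : U ⟶ S) (q : D.obj.left ⟶ U), Etale v ∧ IsQuot D (𝟙 _) v q := by
  have w' : r ≫ g = p' ≫ 𝟙 S := by rw [w, Category.comp_id]
  obtain ⟨U, v, q', hv, hq'⟩ := h (pullDD D p' r (𝟙 S) w') rfl
    (inferInstanceAs (Etale (pullback.snd D.obj.hom r)))
    (fun _ => inferInstanceAs (IsSeparated (pullback.snd D.obj.hom r)))
    (fun _ => inferInstanceAs (QuasiCompact (pullback.snd D.obj.hom r)))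
  haveI := hv
  obtain ⟨q, hq⟩ := exists_isQuot_of_refine_univSubmersive D p' r w' hp' v hq'
  exact ⟨U, v, q, hv, hq⟩

/-- The gluing bijection on a stable open. -/
noncomputable def subφ (W : D.obj.left.Opens) (hW : Stable D (W : Set D.obj.left)) ⦃T : Scheme.{u}⦄
    (x₀ x₁ : T ⟶ X) (h : x₀ ≫ g = x₁ ≫ g) (v : Lifts (Over.mk (W.ι ≫ D.obj.hom)) x₀) :
    Lifts (Over.mk (W.ι ≫ D.obj.hom)) x₁ :=
  ⟨IsOpenImmersion.lift W.ι (D.φ x₀ x₁ h ⟨v.1 ≫ W.ι, (Category.assoc _ _ _).trans v.2⟩).1 (by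
    rintro _ ⟨t, rfl⟩
    exact (Scheme.Opens.range_ι W).ge
      (hW _ _ (rel_φ h ⟨v.1 ≫ W.ι, (Category.assoc _ _ _).trans v.2⟩) t (v.1 t).2)),
   ((IsOpenImmersion.lift_fac_assoc _ _ _ _).trans
    (D.φ x₀ x₁ h ⟨v.1 ≫ W.ι, (Category.assoc _ _ _).trans v.2⟩).2)⟩

theorem subφ_ι (W : D.obj.left.Opens) (hW : Stable D (W : Set D.obj.left)) ⦃T : Scheme.{u}⦄
    (x₀ x₁ : T ⟶ X) (h : x₀ ≫ g = x₁ ≫ g) (v : Lifts (Over.mk (W.ι ≫ D.obj.hom)) x₀) :
    (subφ D W hW x₀ x₁ h v).1 ≫ W.ι =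
      (D.φ x₀ x₁ h ⟨v.1 ≫ W.ι, (Category.assoc _ _ _).trans v.2⟩).1 :=
  IsOpenImmersion.lift_fac _ _ _

theorem subφ_comp (W : D.obj.left.Opens) (hW : Stable D (W : Set D.obj.left)) ⦃T : Scheme.{u}⦄
    (x₀ x₁ x₂ : T ⟶ X) (h₀₁ : x₀ ≫ g = x₁ ≫ g) (h₁₂ : x₁ ≫ g = x₂ ≫ g)
    (v : Lifts (Over.mk (W.ι ≫ D.obj.hom)) x₀) :
    subφ D W hW x₁ x₂ h₁₂ (subφ D W hW x₀ x₁ h₀₁ v) = subφ D W hW x₀ x₂ (h₀₁.trans h₁₂) v := by
  refine Subtype.ext ((cancel_mono W.ι).1 ?_)
  refine ((subφ_ι D W hW _ _ _ _).trans ?_).trans (subφ_ι D W hW _ _ _ _).symm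
  rw [← D.φ_comp x₀ x₁ x₂ h₀₁ h₁₂]
  exact DescLib.φ_congr rfl rfl _ _ _ _ (subφ_ι D W hW x₀ x₁ h₀₁ v)

theorem subφ_self (W : D.obj.left.Opens) (hW : Stable D (W : Set D.obj.left)) ⦃T : Scheme.{u}⦄
    (x : T ⟶ X) (v : Lifts (Over.mk (W.ι ≫ D.obj.hom)) x) : subφ D W hW x x rfl v = v :=
  Subtype.ext ((cancel_mono W.ι).1 ((subφ_ι D W hW x x rfl v).trans (congrArg Subtype.val (D.φ_self x _))))

/-- The restriction of a descent datum to a stable open. -/
noncomputable def subDD (W : D.obj.left.Opens) (hW : Stable D (W : Set D.obj.left)) : SchDD g where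
  obj := Over.mk (W.ι ≫ D.obj.hom)
  φ T x₀ x₁ h :=
    { toFun := subφ D W hW x₀ x₁ h
      invFun := subφ D W hW x₁ x₀ h.symm
      left_inv := fun v => (subφ_comp D W hW x₀ x₁ x₀ h h.symm v).trans (subφ_self D W hW x₀ v)
      right_inv := fun v => (subφ_comp D W hW x₁ x₀ x₁ h.symm h v).trans (subφ_self D W hW x₁ v) }
  φ_natural T T' a x₀ x₁ h h' v v' hv := by
    refine (cancel_mono W.ι).1 ?_
    refine (subφ_ι D W hW _ _ h' v').trans ?_
    refine Eq.trans ?_ (((Category.assoc _ _ _).trans (congrArg (a ≫ ·) (subφ_ι D W hW x₀ x₁ h v))).symm)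
    exact D.φ_natural a x₀ x₁ h h' ⟨v.1 ≫ W.ι, (Category.assoc _ _ _).trans v.2⟩
      ⟨v'.1 ≫ W.ι, (Category.assoc _ _ _).trans v'.2⟩ ((congrArg (· ≫ W.ι) hv).trans (Category.assoc _ _ _))
  φ_self T x v := subφ_self D W hW x v
  φ_comp T x₀ x₁ x₂ h₀₁ h₁₂ v := subφ_comp D W hW x₀ x₁ x₂ h₀₁ h₁₂ v

/-- A stable open whose restricted datum has an étale quotient is good. -/
theorem goodEt_of_subDD (W : D.obj.left.Opens) (hW : Stable D (W : Set D.obj.left))
    (h : ∃ (U : Scheme.{u}) (v : U ⟶ S) (q : (subDD D W hW).obj.left ⟶ U),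
      Etale v ∧ IsQuot (subDD D W hW) (𝟙 _) v q) : GoodEt D W := by
  obtain ⟨U, v, q, hv, hq⟩ := h
  refine ⟨hW, U, v, q, hv, ⟨fun T a b r => ?_, fun T a c r => Stable.exists_lift
    (by rw [Scheme.Opens.range_ι]; exact hW) a c r, ?_⟩⟩
  · refine hq.rel a b ?_
    have e : (a ≫ 𝟙 W.toScheme = a) ∧ (b ≫ 𝟙 W.toScheme = b) := ⟨Category.comp_id a, Category.comp_id b⟩
    refine ⟨by
      show ((a ≫ 𝟙 W.toScheme) ≫ W.ι ≫ D.obj.hom) ≫ g = ((b ≫ 𝟙 W.toScheme) ≫ W.ι ≫ D.obj.hom) ≫ g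
      rw [e.1, e.2]
      simpa only [Category.assoc] using r.1, (cancel_mono W.ι).1 ?_⟩
    refine (subφ_ι D W hW _ _ _ _).trans ?_
    refine Eq.trans ?_ (congrArg (· ≫ W.ι) e.2).symm
    refine (DescLib.φ_congr ?_ ?_ _ r.1 _ ⟨a ≫ W.ι, rfl⟩ ?_).trans r.2
    · show (a ≫ 𝟙 W.toScheme) ≫ W.ι ≫ D.obj.hom = _
      rw [e.1, Category.assoc]
    · show (b ≫ 𝟙 W.toScheme) ≫ W.ι ≫ D.obj.hom = _
      rw [e.2, Category.assoc]
    · show (a ≫ 𝟙 W.toScheme) ≫ W.ι = _
      rw [e.1]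
  · have := hq.isPullback
    simp only [Category.id_comp] at this
    exact this

end SubmEffLib
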