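import Groth.Agent.SubmDescLib.FiniteClosed
import Groth.Agent.ProperClopenLib.Separated

/-!
# Étale quotients near the closed fibre of a proper morphism to a complete local scheme
-/

set_option autoImplicit false
set_option linter.style.haveILetI false
set_option backward.isDefEq.respectTransparency false
set_option backward.isDefEq.respectTransparency.types false

universe u

open CategoryTheory CategoryTheory.Limits AlgebraicGeometry TopologicalSpace

namespace SubmEffLib

open Desc DescLib SubmDescLib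

variable {B : Type u} [CommRing B] [IsNoetherianRing B] [IsLocalRing B]
  [IsAdicComplete (IsLocalRing.maximalIdeal B) B] [IsAlgClosed (IsLocalRing.ResidueField B)]

/-- The closed point as a morphism. -/
noncomputable abbrev closedι (B : Type u) [CommRing B] [IsLocalRing B] :
    Spec (CommRingCat.of (IsLocalRing.ResidueField B)) ⟶ Spec (CommRingCat.of B) :=
  Spec.map (CommRingCat.ofHom (IsLocalRing.residue B))

omit [IsNoetherianRing B] [IsAdicComplete (IsLocalRing.maximalIdeal B) B] [IsAlgClosed (IsLocalRing.ResidueField B)] in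
theorem range_closedι : Set.range (closedι B) = {IsLocalRing.closedPoint B} := by
  refine Set.eq_singleton_iff_unique_mem.2 ⟨⟨IsLocalRing.closedPoint _, ?_⟩, ?_⟩
  · exact closedPoint_map _ Ideal.Quotient.mk_surjective _
  · rintro _ ⟨s, rfl⟩
    exact closedPoint_map _ Ideal.Quotient.mk_surjective _

omit [IsNoetherianRing B] [IsAdicComplete (IsLocalRing.maximalIdeal B) B] [IsAlgClosed (IsLocalRing.ResidueField B)] in
theorem mem_zeroLocus_iff (x : PrimeSpectrum B) :
    x ∈ PrimeSpectrum.zeroLocus (IsLocalRing.maximalIdeal B : Set B) ↔ x = IsLocalRing.closedPoint B := by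
  rw [PrimeSpectrum.mem_zeroLocus, SetLike.coe_subset_coe]
  refine ⟨fun h => PrimeSpectrum.ext ((IsLocalRing.maximalIdeal.isMaximal B).eq_of_le x.isPrime.ne_top h).symm, ?_⟩
  rintro rfl
  exact le_refl _

variable {X Z : Scheme.{u}} (g : X ⟶ Spec (CommRingCat.of B)) [IsProper g] (π : Z ⟶ X) [Etale π]
  [IsSeparated π] [QuasiCompact π]

/-- A section of a separated étale scheme over the closed fibre of a proper scheme extends. -/
theorem exists_section_extend (s₀ : pullback g (closedι B) ⟶ Z)
    (hs₀ : s₀ ≫ π = pullback.fst g (closedι B)) :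
    ∃ s : X ⟶ Z, s ≫ π = 𝟙 X ∧ pullback.fst g (closedι B) ≫ s = s₀ := by
  let κ := closedι B
  let X₀ := pullback g κ
  let ι : X₀ ⟶ X := pullback.fst g κ
  haveI : IsClosedImmersion κ := IsClosedImmersion.spec_of_surjective _ Ideal.Quotient.mk_surjective
  haveI : IsClosedImmersion ι := MorphismProperty.pullback_fst (P := @IsClosedImmersion) g κ inferInstance
  have hrι : Set.range ι = g ⁻¹' {IsLocalRing.closedPoint B} := by
    rw [Scheme.Pullback.range_fst, range_closedι]
  let Z₀ := pullback π ι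
  haveI : IsClosedImmersion (pullback.fst π ι) := MorphismProperty.pullback_fst (P := @IsClosedImmersion) π ι inferInstance
  haveI : Etale (pullback.snd π ι) := MorphismProperty.pullback_snd (P := @Etale) π ι inferInstance
  let t : X₀ ⟶ Z₀ := pullback.lift s₀ (𝟙 _) (by rw [hs₀, Category.id_comp])
  have ht : t ≫ pullback.fst π ι = s₀ := pullback.lift_fst _ _ _
  haveI : IsOpenImmersion t :=
    FFDescLib.isOpenImmersion_of_section (pullback.snd π ι) t (pullback.lift_snd _ _ _)
  obtain ⟨O, hO, hOt⟩ := (pullback.fst π ι).isClosedEmbedding.isEmbedding.isInducing.isOpen_iff.mp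
    t.isOpenEmbedding.isOpen_range
  let V : Z.Opens := ⟨O, hO⟩
  have hrange : Set.range s₀ =
      (V : Set Z) ∩ (π ≫ g) ⁻¹' PrimeSpectrum.zeroLocus (IsLocalRing.maximalIdeal B : Set B) := by
    have hfib : Set.range (pullback.fst π ι) =
        (π ≫ g) ⁻¹' PrimeSpectrum.zeroLocus (IsLocalRing.maximalIdeal B : Set B) := by
      rw [Scheme.Pullback.range_fst, hrι]
      ext z
      exact (mem_zeroLocus_iff (g (π z))).symm
    rw [← hfib, ← ht]
    show Set.range (pullback.fst π ι ∘ t) = O ∩ _
    rw [Set.range_comp, ← hOt, Set.image_preimage_eq_inter_range]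
  haveI : IsProper (s₀ ≫ π ≫ g) := by
    rw [reassoc_of% hs₀]
    infer_instance
  obtain ⟨U, -, hUp, hUV⟩ := ProperClopenLib.exists_clopen_proper_lift (π ≫ g) (IsLocalRing.maximalIdeal B) V s₀ hrange
  haveI := hUp
  let πU : U.toScheme ⟶ X := U.ι ≫ π
  haveI : IsProper (πU ≫ g) := by rw [Category.assoc]; exact hUp
  haveI : IsProper πU := IsProper.of_comp πU g
  have hfU : ∀ z : Z, (π ≫ g) z = IsLocalRing.closedPoint B → (z ∈ U ↔ z ∈ Set.range s₀) := by
    intro z hz
    rw [hUV z ((mem_zeroLocus_iff _).2 hz), hrange]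
    exact ⟨fun h => ⟨h, (mem_zeroLocus_iff _).2 hz⟩, fun h => h.1⟩
  haveI : CompactSpace X := QuasiCompact.compactSpace_of_compactSpace g
  let P := pullback πU πU
  let pP : P ⟶ Spec (CommRingCat.of B) := pullback.fst πU πU ≫ πU ≫ g
  haveI : CompactSpace P := QuasiCompact.compactSpace_of_compactSpace pP
  have hrκ : IsLocalRing.closedPoint B ∈ Set.range κ := (range_closedι (B := B)).ge rfl
  have heq : pullback.fst πU πU = pullback.snd πU πU := by
    refine hom_ext_closedPoints πU pullback.condition fun y hy => ?_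
    have hyc := image_eq_closedPoint pP pP.isClosedMap y hy
    obtain ⟨w, hw, hwy⟩ := exists_kpoint pP κ y (hyc ▸ hrκ) hy
    refine ⟨_, w, ⟨_, hwy⟩, ?_⟩
    have key : ∀ x : Spec (CommRingCat.of (IsLocalRing.ResidueField B)) ⟶ U.toScheme, x ≫ πU ≫ g = κ →
        ∃ a : Spec (CommRingCat.of (IsLocalRing.ResidueField B)) ⟶ X₀, a ≫ s₀ = x ≫ U.ι := by
      intro x hx
      let z := (x ≫ U.ι) (IsLocalRing.closedPoint _)
      have hzc : (π ≫ g) z = IsLocalRing.closedPoint B := by
        rw [← Scheme.Hom.comp_apply, Category.assoc, show x ≫ U.ι ≫ π ≫ g = κ from by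
          simpa [πU] using hx]
        exact closedPoint_map _ Ideal.Quotient.mk_surjective _
      have hzU : z ∈ U := by
        show (x ≫ U.ι) _ ∈ U
        rw [Scheme.Hom.comp_apply]
        exact (x _).2
      obtain ⟨a₀, ha₀⟩ := (hfU z hzc).1 hzU
      have hc : IsClosed ({a₀} : Set X₀) := by
        haveI : LocallyQuasiFinite π := DescLib.lqf_of_unramified _
        have hx₁ : ((x ≫ πU) ≫ g) = κ := by rw [Category.assoc]; exact hx
        let zX := (x ≫ πU) (IsLocalRing.closedPoint _)
        have he : ι a₀ = zX := by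
          rw [show ι = s₀ ≫ π from hs₀.symm, Scheme.Hom.comp_apply, ha₀, ← Scheme.Hom.comp_apply]
          simp only [Category.assoc, πU, zX]
        haveI : IsClosedImmersion ((x ≫ πU) ≫ g) := by rw [hx₁]; infer_instance
        haveI : IsClosedImmersion (x ≫ πU) := IsClosedImmersion.of_comp (x ≫ πU) g
        have hcl : IsClosed ({zX} : Set X) := by
          have hrange : Set.range (x ≫ πU) = {zX} := by
            refine Set.eq_singleton_iff_unique_mem.2 ⟨⟨_, rfl⟩, ?_⟩
            rintro _ ⟨s, rfl⟩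
            exact congrArg _ (Subsingleton.elim _ _)
          rw [← hrange]
          exact (x ≫ πU).isClosedEmbedding.isClosed_range
        have := hcl.preimage ι.continuous
        rwa [show ι ⁻¹' {zX} = {a₀} from Set.eq_singleton_iff_unique_mem.2
          ⟨he, fun b hb => ι.isClosedEmbedding.injective (hb.trans he.symm)⟩] at this
      have ha₀c : (s₀ ≫ π ≫ g) a₀ ∈ Set.range κ := by
        rw [Scheme.Hom.comp_apply, ha₀, hzc]; exact hrκ
      obtain ⟨a, ha, haa⟩ := exists_kpoint (s₀ ≫ π ≫ g) κ a₀ ha₀c hc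
      refine ⟨a, kpoint_ext (π ≫ g) κ (by simpa [Category.assoc] using ha)
        (by simpa [πU] using hx) ?_⟩
      rw [Scheme.Hom.comp_apply, haa, ha₀]
    obtain ⟨a, ha⟩ := key (w ≫ pullback.fst πU πU) (by simpa [pP] using hw)
    obtain ⟨b, hb⟩ := key (w ≫ pullback.snd πU πU) (by
      rw [Category.assoc, ← reassoc_of% (pullback.condition (f := πU) (g := πU))]
      simpa [pP] using hw)
    have hab : a = b := by
      rw [← cancel_mono ι, show ι = s₀ ≫ π from hs₀.symm, ← Category.assoc, ha, ← Category.assoc, hb]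
      simp only [Category.assoc]
      exact congrArg (w ≫ ·) pullback.condition
    rw [← cancel_mono U.ι, ← ha, hab, hb]
  haveI : Mono πU := ⟨fun a b e => by
    rw [← pullback.lift_fst a b e, heq, pullback.lift_snd]⟩
  haveI : IsOpenImmersion πU := IsOpenImmersion.of_flat_of_mono πU
  haveI : Surjective πU := ⟨fun x => by
    by_contra hx
    obtain ⟨y, hy, hyc⟩ := IsClosed.exists_closed_singleton (πU.isOpenEmbedding.isOpen_range.isClosed_compl) ⟨x, hx⟩
    have hy₀ := image_eq_closedPoint g g.isClosedMap y hyc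
    obtain ⟨a, ha⟩ := hrι.ge (show y ∈ g ⁻¹' {IsLocalRing.closedPoint B} from hy₀)
    refine hy ⟨⟨s₀ a, (hfU (s₀ a) ?_).2 ⟨a, rfl⟩⟩, ?_⟩
    · rw [← Scheme.Hom.comp_apply, reassoc_of% hs₀, Scheme.Hom.comp_apply, ha, hy₀]
    · show (U.ι ≫ π) _ = y
      rw [Scheme.Hom.comp_apply]
      show π (s₀ a) = y
      rw [← Scheme.Hom.comp_apply, hs₀]
      exact ha⟩
  haveI : IsIso πU := (isIso_iff_isOpenImmersion_and_surjective _).2 ⟨inferInstance, inferInstance⟩
  refine ⟨inv πU ≫ U.ι, by rw [Category.assoc]; exact IsIso.inv_hom_id πU, ?_⟩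
  have hr : Set.range s₀ ⊆ Set.range U.ι := by
    rw [Scheme.Opens.range_ι]
    rintro _ ⟨a, rfl⟩
    refine (hfU _ ?_).2 ⟨a, rfl⟩
    have := (hrange.subset ⟨a, rfl⟩).2
    exact (mem_zeroLocus_iff _).1 this
  have hl : IsOpenImmersion.lift U.ι s₀ hr ≫ πU = ι := by
    rw [← Category.assoc, IsOpenImmersion.lift_fac, hs₀]
  rw [show pullback.fst g (closedι B) = ι from rfl, ← hl, Category.assoc, IsIso.hom_inv_id_assoc,
    IsOpenImmersion.lift_fac]

/-- Near the closed fibre of a proper morphism, étale descent data have étale quotients. -/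
theorem exists_goodEt_closedFibre_proper {g : X ⟶ Spec (CommRingCat.of B)} [IsProper g] (D : SchDD g)
    [Etale D.obj.hom] [IsSeparated D.obj.hom] [QuasiCompact D.obj.hom] (v₀ : D.obj.left)
    (hv₀ : (D.obj.hom ≫ g) v₀ = IsLocalRing.closedPoint B) :
    ∃ W : D.obj.left.Opens, v₀ ∈ W ∧ GoodEt D W := by
  let κ := closedι B
  let π := D.obj.hom
  have hrκ : IsLocalRing.closedPoint B ∈ Set.range κ := (range_closedι (B := B)).ge rfl
  haveI : IsClosedImmersion κ := IsClosedImmersion.spec_of_surjective _ Ideal.Quotient.mk_surjective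
  haveI : CompactSpace D.obj.left := QuasiCompact.compactSpace_of_compactSpace (π ≫ g)
  obtain ⟨v, hvm, hvc⟩ := IsClosed.exists_closed_singleton (isClosed_closure (s := ({v₀} : Set D.obj.left)))
    ⟨v₀, subset_closure rfl⟩
  have hv : (π ≫ g) v = IsLocalRing.closedPoint B := by
    have hsp : (π ≫ g) v₀ ⤳ (π ≫ g) v := (specializes_iff_mem_closure.2 hvm).map (π ≫ g).continuous
    rw [hv₀] at hsp
    exact (hsp.mem_closed (IsLocalRing.isClosed_singleton_closedPoint B) rfl)
  suffices h : ∃ W : D.obj.left.Opens, v ∈ W ∧ GoodEt D W by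
    obtain ⟨W, hW, hgood⟩ := h
    exact ⟨W, (specializes_iff_mem_closure.2 hvm).mem_open W.2 hW, hgood⟩
  obtain ⟨z, hz, hzv⟩ := exists_kpoint (π ≫ g) κ v (hv ▸ hrκ) hvc
  let X₀ := pullback g κ
  let ι : X₀ ⟶ X := pullback.fst g κ
  let π₀ : X₀ ⟶ _ := pullback.snd g κ
  obtain ⟨s₀, hs₀, hs₀r⟩ := exists_rel (D := D) (π₀ ≫ z) ι (by
    simp only [Category.assoc]
    rw [hz]
    exact pullback.condition.symm)
  obtain ⟨s, hs, hιs⟩ := exists_section_extend g π s₀ hs₀
  have horb : ∀ x : Spec (CommRingCat.of (IsLocalRing.ResidueField B)) ⟶ X, x ≫ g = κ → Rel D z (x ≫ s) := by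
    intro x hx
    let x' : _ ⟶ X₀ := pullback.lift x (𝟙 _) (by rw [hx, Category.id_comp])
    have h := hs₀r.comp x'
    rw [show x' ≫ π₀ ≫ z = z from by rw [← Category.assoc, pullback.lift_snd, Category.id_comp]] at h
    rwa [show x ≫ s = x' ≫ s₀ from by rw [← hιs, ← Category.assoc, pullback.lift_fst]]
  haveI : IsOpenImmersion s := FFDescLib.isOpenImmersion_of_section π s hs
  let p₁ := pullback.fst g g
  let p₂ := pullback.snd g g
  obtain ⟨c₀, hc₀, hr₀⟩ := exists_rel (p₁ ≫ s) p₂ (D := D) (by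
    rw [Category.assoc p₁, hs, Category.comp_id]; exact pullback.condition)
  haveI : QuasiCompact (p₁ ≫ g) := inferInstance
  haveI : CompactSpace ↥(pullback g g) := QuasiCompact.compactSpace_of_compactSpace (p₁ ≫ g)
  have hc : c₀ = p₂ ≫ s := by
    refine hom_ext_closedPoints π (by rw [hc₀, Category.assoc, hs, Category.comp_id]) fun y hy => ?_
    have hyc := image_eq_closedPoint (p₁ ≫ g) (p₁ ≫ g).isClosedMap y hy
    obtain ⟨w, hw, hwy⟩ := exists_kpoint (p₁ ≫ g) κ y (hyc ▸ hrκ) hy
    refine ⟨_, w, ⟨_, hwy⟩, ?_⟩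
    have r₁ : Rel D ((w ≫ p₁) ≫ s) (w ≫ c₀) := by simpa only [Category.assoc] using hr₀.comp w
    have r₂ := horb (w ≫ p₁) (by rwa [Category.assoc])
    have r₃ := horb (w ≫ p₂) (by rw [Category.assoc, ← pullback.condition]; exact hw)
    rw [← Category.assoc]
    exact ((r₂.trans r₁).symm.trans r₃).eq (by simp only [Category.assoc]; rw [hc₀, hs, Category.comp_id])
  have hs' : s ≫ D.obj.hom = 𝟙 X := hs
  have hquot : IsQuot D s (𝟙 _) g := by
    refine ⟨fun T a b r => ?_, fun T a c r => ⟨c ≫ π, ?_⟩, ?_⟩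
    · have := r.1
      simpa only [Category.assoc, reassoc_of% hs', π] using this
    · have h1 : a ≫ g = (c ≫ π) ≫ g := by simpa only [Category.assoc, reassoc_of% hs', π] using r.1
      have r' := hr₀.comp (pullback.lift a (c ≫ π) h1)
      rw [pullback.lift_fst_assoc] at r'
      have := (r'.symm.trans r).eq (by rw [Category.assoc, hc₀, pullback.lift_snd])
      rw [hc, pullback.lift_snd_assoc] at this
      exact this
    · haveI : IsIso (s ≫ D.obj.hom) := by rw [hs']; infer_instance
      exact IsPullback.of_vert_isIso ⟨by rw [hs', Category.id_comp, Category.comp_id]⟩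
  refine ⟨s.opensRange, ?_, goodEt_of_isQuot hquot⟩
  have hzs : z = (z ≫ π) ≫ s := (horb (z ≫ π) (by rwa [Category.assoc])).eq (by
    simp only [Category.assoc]; rw [hs, Category.comp_id])
  exact ⟨(z ≫ π) (IsLocalRing.closedPoint _), by rw [← Scheme.Hom.comp_apply, ← hzs, hzv]⟩

end SubmEffLib
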