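import Groth.Agent.SubmDescLib.Bridge
import Groth.Agent.DescLib.QAff

/-!
# Étale quotients descend along universally submersive morphisms with effective descent
-/

set_option autoImplicit false
set_option linter.style.haveILetI false
set_option backward.isDefEq.respectTransparency false
set_option backward.isDefEq.respectTransparency.types false

universe u

open CategoryTheory CategoryTheory.Limits AlgebraicGeometry

namespace SubmEffLib

open Desc DescLib SubmDescLib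

variable {X S : Scheme.{u}} {g : X ⟶ S} (D : SchDD g) {S₁ : Scheme.{u}} (p : S₁ ⟶ S)

/-- An étale quotient over a universally submersive base change descends when the induced datum on it is effective. -/
theorem exists_isQuot_of_eff (hp : SGA1.UnivSubmersive p) [Etale D.obj.hom] (hg : SGA1.UnivSubmersive g)
    {U₁ : Scheme.{u}} {v₁ : U₁ ⟶ S₁} [Etale v₁] {q₁ : Pt D p ⟶ U₁}
    (hq₁ : QAt D p v₁ q₁)
    (heff : ∀ E : SchDD p, E.obj = Over.mk v₁ →
      ∃ (U : Scheme.{u}) (v : U ⟶ S) (q : E.obj.left ⟶ U), Etale v ∧ IsQuot E (𝟙 _) v q) :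
    ∃ (U : Scheme.{u}) (v : U ⟶ S) (q : D.obj.left ⟶ U), Etale v ∧ IsQuot D (𝟙 _) v q := by
  haveI := surjective_of_univSubmersive hp
  haveI := surjective_of_univSubmersive (hq₁.univSubmersive hg)
  let pr₁ := pullback.fst p p
  let pr₂ := pullback.snd p p
  obtain ⟨qA, hqA, hAm⟩ := hq₁.exists_baseChange pr₁ (pr₁ ≫ p) rfl (IsPullback.of_hasPullback v₁ pr₁)
  obtain ⟨qB, hqB, hBm⟩ := hq₁.exists_baseChange pr₂ (pr₁ ≫ p) pullback.condition.symm
    (IsPullback.of_hasPullback v₁ pr₂)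
  obtain ⟨e, he, he'⟩ := hqA.exists_iso hg hqB
  let F : ∀ {T : Scheme.{u}} (x₀ x₁ : T ⟶ S₁), x₀ ≫ p = x₁ ≫ p → Lifts (Over.mk v₁) x₀ → (T ⟶ U₁) :=
    fun x₀ x₁ h w => pullback.lift (f := v₁) (g := pr₁) w.1 (pullback.lift x₀ x₁ h)
      (by rw [pullback.lift_fst]; exact w.2) ≫ e.hom ≫ pullback.fst v₁ pr₂
  have hF : ∀ {T : Scheme.{u}} (x₀ x₁ : T ⟶ S₁) (h : x₀ ≫ p = x₁ ≫ p) (w : Lifts (Over.mk v₁) x₀),
      F x₀ x₁ h w ≫ v₁ = x₁ := fun x₀ x₁ h w => by
    simp only [F, Category.assoc, pullback.condition]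
    rw [reassoc_of% he, ← Category.assoc, pullback.lift_snd, pullback.lift_snd]
  have key : ∀ {T : Scheme.{u}} (a b : T ⟶ Pt D p) (x₀ x₁ : T ⟶ S₁) (h : x₀ ≫ p = x₁ ≫ p)
      (w : Lifts (Over.mk v₁) x₀), a ≫ pullback.snd _ _ = x₀ → b ≫ pullback.snd _ _ = x₁ → a ≫ q₁ = w.1 →
      Rel D (a ≫ pullback.fst _ _) (b ≫ pullback.fst _ _) → F x₀ x₁ h w = b ≫ q₁ := by
    intro T a b x₀ x₁ h w ha hb hw r
    let x₂ := pullback.lift x₀ x₁ h
    have hx₁ : x₂ ≫ pr₁ = x₀ := pullback.lift_fst _ _ _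
    have hx₂ : x₂ ≫ pr₂ = x₁ := pullback.lift_snd _ _ _
    let a' : T ⟶ Pt D (pr₁ ≫ p) := pullback.lift (f := D.obj.hom ≫ g) (g := pr₁ ≫ p) (a ≫ pullback.fst _ _) x₂
      (by rw [Category.assoc, pullback.condition, reassoc_of% ha, reassoc_of% hx₁])
    let b' : T ⟶ Pt D (pr₁ ≫ p) := pullback.lift (f := D.obj.hom ≫ g) (g := pr₁ ≫ p) (b ≫ pullback.fst _ _) x₂
      (by rw [Category.assoc, pullback.condition, reassoc_of% hb, reassoc_of% hx₁, h])
    have hq : a' ≫ qB = b' ≫ qB := hqB.rel a' b' (by simp [a', b']) (by simpa [a', b'] using r)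
    have hA : pullback.lift (f := v₁) (g := pr₁) w.1 x₂ (by rw [hx₁]; exact w.2) = a' ≫ qA := by
      apply pullback.hom_ext
      · rw [pullback.lift_fst, Category.assoc, hAm, ← hw, ← Category.assoc]
        congr 1
        apply pullback.hom_ext
        · simp [a']
        · simp [a', ha, hx₁]
      · rw [pullback.lift_snd, Category.assoc, hqA.w, pullback.lift_snd]
    change pullback.lift (f := v₁) (g := pr₁) w.1 x₂ _ ≫ e.hom ≫ pullback.fst v₁ pr₂ = _
    rw [hA, Category.assoc, reassoc_of% he', ← Category.assoc, hq, Category.assoc, hBm, ← Category.assoc]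
    congr 1
    apply pullback.hom_ext
    · simp [b']
    · simp [b', hb, hx₂]
  have key' : ∀ {T : Scheme.{u}} (x₀ x₁ : T ⟶ S₁) (h : x₀ ≫ p = x₁ ≫ p) (w : Lifts (Over.mk v₁) x₀)
      {T' : Scheme.{u}} (c : T' ⟶ T) (a b : T' ⟶ Pt D p), a ≫ pullback.snd _ _ = c ≫ x₀ →
      b ≫ pullback.snd _ _ = c ≫ x₁ → a ≫ q₁ = c ≫ w.1 → Rel D (a ≫ pullback.fst _ _) (b ≫ pullback.fst _ _) →
      c ≫ F x₀ x₁ h w = b ≫ q₁ := by
    intro T x₀ x₁ h w T' c a b ha hb hw r
    rw [← key a b (c ≫ x₀) (c ≫ x₁) (by rw [Category.assoc, h, Category.assoc])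
      ⟨c ≫ w.1, by rw [Category.assoc]; exact congrArg (c ≫ ·) w.2⟩ ha hb hw r]
    simp only [F, ← Category.assoc]
    congr 2
    apply pullback.hom_ext
    · simp
    · apply pullback.hom_ext <;> simp
  have loc : ∀ {T : Scheme.{u}} (x : T ⟶ S₁) (w : Lifts (Over.mk v₁) x),
      ∃ (T' : Scheme.{u}) (c : T' ⟶ T) (a : T' ⟶ Pt D p), Surjective c ∧ a ≫ q₁ = c ≫ w.1 ∧
        a ≫ pullback.snd _ _ = c ≫ x := by
    intro T x w
    refine ⟨pullback w.1 q₁, pullback.fst _ _, pullback.snd _ _, inferInstance, pullback.condition.symm, ?_⟩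
    rw [← hq₁.w, ← Category.assoc, ← pullback.condition, Category.assoc]
    exact congrArg (pullback.fst w.1 q₁ ≫ ·) w.2
  have self : ∀ {T : Scheme.{u}} (x : T ⟶ S₁) (w : Lifts (Over.mk v₁) x), F x x rfl w = w.1 := by
    intro T x w
    obtain ⟨T', c, a, hc, haq, has⟩ := loc x w
    haveI := hc
    refine SubmDescLib.hom_ext c v₁ ((hF x x rfl w).trans w.2.symm) ?_
    rw [key' x x rfl w c a a has has haq (Rel.refl _), haq]
  have comp : ∀ {T : Scheme.{u}} (x₀ x₁ x₂ : T ⟶ S₁) (h₀₁ : x₀ ≫ p = x₁ ≫ p) (h₁₂ : x₁ ≫ p = x₂ ≫ p)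
      (w : Lifts (Over.mk v₁) x₀),
      F x₁ x₂ h₁₂ ⟨F x₀ x₁ h₀₁ w, hF x₀ x₁ h₀₁ w⟩ = F x₀ x₂ (h₀₁.trans h₁₂) w := by
    intro T x₀ x₁ x₂ h₀₁ h₁₂ w
    obtain ⟨T', c, a, hc, haq, has⟩ := loc x₀ w
    haveI := hc
    refine SubmDescLib.hom_ext c v₁ ((hF _ _ _ _).trans (hF _ _ _ _).symm) ?_
    have hb : ∀ (y : T ⟶ S₁), x₀ ≫ p = y ≫ p → ∃ b : T' ⟶ Pt D p,
        b ≫ pullback.fst _ _ = a ≫ pullback.fst _ _ ∧ b ≫ pullback.snd _ _ = c ≫ y := fun y hy =>
      ⟨pullback.lift (a ≫ pullback.fst _ _) (c ≫ y) (by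
        rw [Category.assoc, pullback.condition, reassoc_of% has, Category.assoc, ← hy]),
        pullback.lift_fst _ _ _, pullback.lift_snd _ _ _⟩
    obtain ⟨b₁, hb₁, hb₁'⟩ := hb x₁ h₀₁
    obtain ⟨b₂, hb₂, hb₂'⟩ := hb x₂ (h₀₁.trans h₁₂)
    have e₁ := key' x₀ x₁ h₀₁ w c a b₁ has hb₁' haq (by rw [hb₁]; exact Rel.refl _)
    rw [key' x₀ x₂ (h₀₁.trans h₁₂) w c a b₂ has hb₂' haq (by rw [hb₂]; exact Rel.refl _),
      key' x₁ x₂ h₁₂ ⟨F x₀ x₁ h₀₁ w, hF x₀ x₁ h₀₁ w⟩ c b₁ b₂ hb₁' hb₂' e₁.symm (by rw [hb₁, hb₂]; exact Rel.refl _)]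
  let E : SchDD p :=
    { obj := Over.mk v₁
      φ := fun T x₀ x₁ h =>
        { toFun := fun w => ⟨F x₀ x₁ h w, hF x₀ x₁ h w⟩
          invFun := fun w => ⟨F x₁ x₀ h.symm w, hF x₁ x₀ h.symm w⟩
          left_inv := fun w => Subtype.ext ((comp x₀ x₁ x₀ h h.symm w).trans (self x₀ w))
          right_inv := fun w => Subtype.ext ((comp x₁ x₀ x₁ h.symm h w).trans (self x₁ w)) }
      φ_natural := fun T T' t x₀ x₁ h h' w w' hw' => by
        change F (t ≫ x₀) (t ≫ x₁) h' w' = t ≫ F x₀ x₁ h w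
        simp only [F, ← Category.assoc]
        congr 2
        apply pullback.hom_ext
        · simp [hw']
        · apply pullback.hom_ext <;> simp
      φ_self := fun T x w => Subtype.ext (self x w)
      φ_comp := fun T x₀ x₁ x₂ h₀₁ h₁₂ w => Subtype.ext (comp x₀ x₁ x₂ h₀₁ h₁₂ w) }
  obtain ⟨U, vU, qU, hUet, hqU⟩ := heff E rfl
  haveI := hUet
  have sqU : IsPullback qU v₁ vU p := by
    have h2 := hqU.isPullback
    simp only [Category.id_comp] at h2
    exact h2
  let π := D.obj.hom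
  let f := pullback.fst (π ≫ g) p
  have inv₁ : ∀ {T : Scheme.{u}} (a b : T ⟶ Pt D p), Rel D (a ≫ f) (b ≫ f) → (a ≫ q₁) ≫ qU = (b ≫ q₁) ≫ qU := by
    intro T a b r
    refine hqU.rel (a ≫ q₁) (b ≫ q₁) ?_
    simp only [Category.comp_id]
    have h : (a ≫ pullback.snd _ _) ≫ p = (b ≫ pullback.snd _ _) ≫ p := by
      have hr := r.1
      simp only [Category.assoc] at hr ⊢
      rw [← pullback.condition]
      simpa [f, π, Category.assoc] using hr
    have ha : (a ≫ q₁) ≫ v₁ = a ≫ pullback.snd _ _ := by rw [Category.assoc, hq₁.w]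
    have e₁ := key a b _ _ h ⟨a ≫ q₁, ha⟩ rfl rfl rfl r
    have := rel_φ (D := E) h ⟨a ≫ q₁, ha⟩
    change Rel E (a ≫ q₁) (F _ _ h ⟨a ≫ q₁, ha⟩) at this
    rwa [e₁] at this
  have hf : SGA1.UnivSubmersive f := MorphismProperty.pullback_fst (π ≫ g) p hp
  obtain ⟨m, hmw, hm⟩ := SubmDescLib.exists_desc f hf vU (π ≫ g) (q₁ ≫ qU)
    (by rw [Category.assoc, sqU.w, reassoc_of% hq₁.w]; exact pullback.condition.symm)
    (by
      have := inv₁ (pullback.fst f f) (pullback.snd f f) (by rw [pullback.condition (f := f) (g := f)]; exact Rel.refl _)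
      simpa only [Category.assoc] using this)
  let W := pullback vU g
  let k : D.obj.left ⟶ W := pullback.lift m π hmw
  let l : Pt D p ⟶ W := f ≫ k
  let c : W ⟶ S := pullback.fst vU g ≫ vU
  have hk₁ : k ≫ pullback.fst _ _ = m := pullback.lift_fst _ _ _
  have hk₂ : k ≫ pullback.snd _ _ = π := pullback.lift_snd _ _ _
  have sq₁ : IsPullback q₁ l qU (pullback.fst vU g) := by
    refine IsPullback.of_bot ?_ (by rw [← hm, Category.assoc, hk₁]) (IsPullback.of_hasPullback vU g)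
    rw [Category.assoc, hk₂, sqU.w]
    exact hq₁.isPullback
  have sq₂ : IsPullback l (pullback.snd (π ≫ g) p) c p := by
    have := sq₁.flip.paste_vert sqU
    rwa [hq₁.w] at this
  have hc : SGA1.UnivSubmersive (pullback.fst vU g) := MorphismProperty.pullback_fst _ _ hg
  haveI : IsIso k := by
    have hkc : k ≫ c = π ≫ g := by rw [← Category.assoc, hk₁, hmw]
    have sq₃ : IsPullback f (𝟙 _) k l := by
      refine IsPullback.of_bot ?_ (Category.id_comp _).symm sq₂
      rw [Category.id_comp, hkc]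
      exact IsPullback.of_hasPullback (π ≫ g) p
    haveI : Surjective l := surjective_of_univSubmersive (MorphismProperty.of_isPullback sq₂.flip hp)
    haveI : Etale k := by
      haveI : Etale (k ≫ pullback.snd vU g) := by rw [hk₂]; exact ‹Etale D.obj.hom›
      exact Etale.of_comp k (pullback.snd vU g)
    haveI : Surjective (f ≫ k) := inferInstanceAs (Surjective l)
    haveI : Surjective k := Surjective.of_comp f k
    haveI : UniversallyInjective k := universallyInjective_of_isPullback sq₃.flip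
    exact FFDescLib.isIso_of_etale_univInjective_surjective k
  refine ⟨U, vU, m, hUet, ⟨fun T a b r => ?_, fun T a d _ => ⟨d, Category.comp_id d⟩, ?_⟩⟩
  · simp only [Category.comp_id] at r
    let x := a ≫ π ≫ g
    refine SubmDescLib.hom_ext (pullback.fst x p) vU ?_ ?_
    · simp only [Category.assoc, hmw]
      simpa [π] using r.1
    let a' : pullback x p ⟶ Pt D p := pullback.lift (pullback.fst x p ≫ a) (pullback.snd x p)
      (by rw [Category.assoc]; exact pullback.condition)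
    let b' : pullback x p ⟶ Pt D p := pullback.lift (pullback.fst x p ≫ b) (pullback.snd x p)
      (by
        rw [Category.assoc, show b ≫ π ≫ g = x by simpa [x, π] using r.1.symm]
        exact pullback.condition)
    have ha' : a' ≫ f = pullback.fst x p ≫ a := pullback.lift_fst _ _ _
    have hb' : b' ≫ f = pullback.fst x p ≫ b := pullback.lift_fst _ _ _
    rw [← reassoc_of% ha', ← reassoc_of% hb', hm]
    simpa only [Category.assoc] using inv₁ a' b' (by rw [ha', hb']; exact r.comp _)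
  · rw [Category.id_comp]
    exact (IsPullback.of_hasPullback vU g).of_iso (asIso k).symm (Iso.refl _) (Iso.refl _) (Iso.refl _)
      (by simp [← hk₁]) (by simp [← hk₂, π]) (by simp) (by simp)

end SubmEffLib
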