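import Groth.Agent.SubmEffLib.LimPair

/-!
# Gluing morphisms descend along affine limits
-/

set_option autoImplicit false
set_option linter.style.haveILetI false
set_option backward.isDefEq.respectTransparency false
set_option backward.isDefEq.respectTransparency.types false

universe u

open CategoryTheory CategoryTheory.Limits AlgebraicGeometry

noncomputable section

namespace SubmEffLib

/-- An affine system of morphisms `W → X → S` with its limit `Z → X∞ → S∞`. -/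
structure GSys (J : Type u) [SmallCategory J] [IsCofiltered J] where
  DX : J ⥤ Scheme.{u}
  DS : J ⥤ Scheme.{u}
  DW : J ⥤ Scheme.{u}
  γ : DX ⟶ DS
  ω : DW ⟶ DX
  cX : Cone DX
  cS : Cone DS
  cW : Cone DW
  hX : IsLimit cX
  hS : IsLimit cS
  hW : IsLimit cW
  g : cX.pt ⟶ cS.pt
  π : cW.pt ⟶ cX.pt
  hg : ∀ j, g ≫ cS.π.app j = cX.π.app j ≫ γ.app j
  hπ : ∀ j, π ≫ cX.π.app j = cW.π.app j ≫ ω.app j
  affX : ∀ {j k : J} (a : j ⟶ k), IsAffineHom (DX.map a)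
  affS : ∀ {j k : J} (a : j ⟶ k), IsAffineHom (DS.map a)
  affW : ∀ {j k : J} (a : j ⟶ k), IsAffineHom (DW.map a)
  cpX : ∀ j, CompactSpace (DX.obj j)
  qsX : ∀ j, QuasiSeparatedSpace (DX.obj j)
  qsS : ∀ j, QuasiSeparatedSpace (DS.obj j)
  cpW : ∀ j, CompactSpace (DW.obj j)
  qsW : ∀ j, QuasiSeparatedSpace (DW.obj j)
  top : J
  htop : IsTerminal top
  lfp : LocallyOfFinitePresentation (ω.app top)
  sqW : ∀ {j k : J} (a : j ⟶ k), IsPullback (DW.map a) (ω.app j) (ω.app k) (DX.map a)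

variable {J : Type u} [SmallCategory J] [IsCofiltered J] (G : GSys J)

namespace GSys

/-- Pairs of a point of `W` and a point of `X` over the same point of `S`. -/
abbrev P (j : J) : Scheme.{u} := pullback (G.ω.app j ≫ G.γ.app j) (G.γ.app j)

/-- The limit of the pairs. -/
abbrev P' : Scheme.{u} := pullback (G.π ≫ G.g) G.g

/-- The system of pairs. -/
abbrev PD : J ⥤ Scheme.{u} := pairD (G.ω ≫ G.γ) G.γ

theorem hαP (j : J) : (G.π ≫ G.g) ≫ G.cS.π.app j = G.cW.π.app j ≫ (G.ω ≫ G.γ).app j := by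
  rw [Category.assoc, G.hg, reassoc_of% (G.hπ j)]
  rfl

/-- The limit cone of the pairs. -/
abbrev cP : Cone G.PD := pairCone (G.ω ≫ G.γ) G.γ G.cW G.cX G.cS (G.π ≫ G.g) G.g G.hαP G.hg

/-- The projection of the pairs. -/
abbrev pπ (j : J) : G.P' ⟶ G.P j := G.cP.π.app j

theorem affP {j k : J} (a : j ⟶ k) : IsAffineHom (G.PD.map a) :=
  isAffineHom_pairMap _ _ G.affW G.affX G.affS a

/-- A point of the pairs. -/
abbrev pt {j : J} {T : Scheme.{u}} (a : T ⟶ G.DW.obj j) (x : T ⟶ G.DX.obj j)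
    (h : a ≫ G.ω.app j ≫ G.γ.app j = x ≫ G.γ.app j) : T ⟶ G.P j :=
  pullback.lift a x h

theorem pπ_fst (j : J) : G.pπ j ≫ pullback.fst _ _ = pullback.fst _ _ ≫ G.cW.π.app j :=
  pairCone_fst _ _ _ _ _ _ _ _ _ j

theorem pπ_snd (j : J) : G.pπ j ≫ pullback.snd _ _ = pullback.snd _ _ ≫ G.cX.π.app j :=
  pairCone_snd _ _ _ _ _ _ _ _ _ j

/-- The transition map of the pairs. -/
abbrev Pmap {j k : J} (a : j ⟶ k) : G.P j ⟶ G.P k := G.PD.map a

theorem PD_map_fst {j k : J} (a : j ⟶ k) :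
    G.Pmap a ≫ pullback.fst (G.ω.app k ≫ G.γ.app k) (G.γ.app k) = pullback.fst _ _ ≫ G.DW.map a :=
  pullback.lift_fst _ _ _

theorem PD_map_snd {j k : J} (a : j ⟶ k) :
    G.Pmap a ≫ pullback.snd (G.ω.app k ≫ G.γ.app k) (G.γ.app k) = pullback.snd _ _ ≫ G.DX.map a :=
  pullback.lift_snd _ _ _

variable {G}

theorem map_eq {j k : J} (a : j ⟶ k) {T : Scheme.{u}} {x y : T ⟶ G.DX.obj j} (h : x ≫ G.γ.app j = y ≫ G.γ.app j) :
    (x ≫ G.DX.map a) ≫ G.γ.app k = (y ≫ G.DX.map a) ≫ G.γ.app k := by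
  simp only [Category.assoc, G.γ.naturality]
  rw [reassoc_of% h]

theorem pt_map_cond {j k : J} (f : j ⟶ k) {T : Scheme.{u}} {a : T ⟶ G.DW.obj j} {x : T ⟶ G.DX.obj j}
    (h : a ≫ G.ω.app j ≫ G.γ.app j = x ≫ G.γ.app j) :
    (a ≫ G.DW.map f) ≫ G.ω.app k ≫ G.γ.app k = (x ≫ G.DX.map f) ≫ G.γ.app k := by
  rw [Category.assoc, (G.sqW f).w_assoc, ← Category.assoc, ← Category.assoc]
  exact map_eq f (by rw [Category.assoc]; exact h)

theorem pt_map {j k : J} (f : j ⟶ k) {T : Scheme.{u}} (a : T ⟶ G.DW.obj j) (x : T ⟶ G.DX.obj j)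
    (h : a ≫ G.ω.app j ≫ G.γ.app j = x ≫ G.γ.app j) :
    G.pt a x h ≫ G.Pmap f = G.pt (a ≫ G.DW.map f) (x ≫ G.DX.map f) (pt_map_cond f h) := by
  apply pullback.hom_ext
  · rw [Category.assoc, PD_map_fst, pullback.lift_fst_assoc, pullback.lift_fst]
  · rw [Category.assoc, PD_map_snd, pullback.lift_snd_assoc, pullback.lift_snd]

theorem comp_pt {j : J} {T' T : Scheme.{u}} (t : T' ⟶ T) (a : T ⟶ G.DW.obj j) (x : T ⟶ G.DX.obj j)
    (h : a ≫ G.ω.app j ≫ G.γ.app j = x ≫ G.γ.app j) :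
    t ≫ G.pt a x h = G.pt (t ≫ a) (t ≫ x) (by simp only [Category.assoc, h]) := by
  apply pullback.hom_ext <;> simp

theorem pt_congr {j : J} {T : Scheme.{u}} {a a' : T ⟶ G.DW.obj j} {x x' : T ⟶ G.DX.obj j}
    {h : a ≫ G.ω.app j ≫ G.γ.app j = x ≫ G.γ.app j} {h' : a' ≫ G.ω.app j ≫ G.γ.app j = x' ≫ G.γ.app j}
    (ea : a = a') (ex : x = x') : G.pt a x h = G.pt a' x' h' := by
  subst ea ex
  rfl

variable (G) in
/-- A gluing morphism at a stage, inducing `c'` at the limit. -/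
structure GlueAt (c' : G.P' ⟶ G.cW.pt) (j : J) where
  c : G.P j ⟶ G.DW.obj j
  w : c ≫ G.ω.app j = pullback.snd _ _
  compat : G.pπ j ≫ c = c' ≫ G.cW.π.app j

namespace GlueAt

variable {c' : G.P' ⟶ G.cW.pt} {j k : J}

/-- Moving a gluing morphism to a later stage. -/
def push (hc' : c' ≫ G.π = pullback.snd _ _) (K : G.GlueAt c' k) (a : j ⟶ k) : G.GlueAt c' j where
  c := (G.sqW a).lift (G.Pmap a ≫ K.c) (pullback.snd _ _) (by rw [Category.assoc, K.w, PD_map_snd])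
  w := IsPullback.lift_snd _ _ _ _
  compat := by
    refine (G.sqW a).hom_ext ?_ ?_
    · rw [Category.assoc, IsPullback.lift_fst, Category.assoc, G.cW.w]
      refine Eq.trans ?_ K.compat
      rw [← Category.assoc]
      congr 1
      exact G.cP.w a
    · rw [Category.assoc, IsPullback.lift_snd, pπ_snd, Category.assoc, ← G.hπ, reassoc_of% hc']

variable {hc' : c' ≫ G.π = pullback.snd _ _}

theorem push_map (K : G.GlueAt c' k) (a : j ⟶ k) : (K.push hc' a).c ≫ G.DW.map a = G.Pmap a ≫ K.c :=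
  IsPullback.lift_fst _ _ _ _

theorem pt_c_w (K : G.GlueAt c' k) {T : Scheme.{u}} (a : T ⟶ G.DW.obj k) (x : T ⟶ G.DX.obj k)
    (h : a ≫ G.ω.app k ≫ G.γ.app k = x ≫ G.γ.app k) : (G.pt a x h ≫ K.c) ≫ G.ω.app k = x := by
  rw [Category.assoc, K.w, pullback.lift_snd]

/-- Trivial on the diagonal. -/
def IsSelf (K : G.GlueAt c' k) : Prop :=
  ∀ ⦃T : Scheme.{u}⦄ (a : T ⟶ G.DW.obj k), G.pt a (a ≫ G.ω.app k) (by simp) ≫ K.c = a

/-- The cocycle condition. -/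
def IsComp (K : G.GlueAt c' k) : Prop :=
  ∀ ⦃T : Scheme.{u}⦄ (a : T ⟶ G.DW.obj k) (x₁ x₂ : T ⟶ G.DX.obj k)
    (h₁ : a ≫ G.ω.app k ≫ G.γ.app k = x₁ ≫ G.γ.app k) (h₂ : a ≫ G.ω.app k ≫ G.γ.app k = x₂ ≫ G.γ.app k)
    (h₁₂ : (G.pt a x₁ h₁ ≫ K.c) ≫ G.ω.app k ≫ G.γ.app k = x₂ ≫ G.γ.app k),
    G.pt (G.pt a x₁ h₁ ≫ K.c) x₂ h₁₂ ≫ K.c = G.pt a x₂ h₂ ≫ K.c

theorem pt_push_map (K : G.GlueAt c' k) (f : j ⟶ k) {T : Scheme.{u}} (a : T ⟶ G.DW.obj j) (x : T ⟶ G.DX.obj j)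
    (h : a ≫ G.ω.app j ≫ G.γ.app j = x ≫ G.γ.app j) :
    (G.pt a x h ≫ (K.push hc' f).c) ≫ G.DW.map f =
      G.pt (a ≫ G.DW.map f) (x ≫ G.DX.map f) (pt_map_cond f h) ≫ K.c := by
  rw [Category.assoc, push_map, ← Category.assoc, pt_map]

theorem IsSelf.push {K : G.GlueAt c' k} (hK : K.IsSelf) (f : j ⟶ k) : (K.push hc' f).IsSelf := fun T a => by
  refine (G.sqW f).hom_ext ?_ (pt_c_w _ _ _ _)
  rw [pt_push_map]
  refine Eq.trans ?_ (hK (a ≫ G.DW.map f))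
  congr 2
  rw [Category.assoc, Category.assoc, (G.sqW f).w]

theorem IsComp.push {K : G.GlueAt c' k} (hK : K.IsComp) (f : j ⟶ k) : (K.push hc' f).IsComp :=
  fun T a x₁ x₂ h₁ h₂ h₁₂ => by
  refine (G.sqW f).hom_ext ?_ ((pt_c_w _ _ _ _).trans (pt_c_w _ _ _ _).symm)
  refine ((pt_push_map K f _ x₂ h₁₂).trans ?_).trans (pt_push_map K f a x₂ h₂).symm
  refine Eq.trans ?_ (hK (a ≫ G.DW.map f) (x₁ ≫ G.DX.map f) (x₂ ≫ G.DX.map f) (pt_map_cond f h₁)
    (pt_map_cond f h₂) ?_)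
  · congr 2
    exact pt_push_map K f a x₁ h₁
  · rw [← pt_push_map (hc' := hc') K f a x₁ h₁]
    exact pt_map_cond f h₁₂

end GlueAt

variable (G)

/-- A natural transformation to the top stage. -/
def toTop {D : J ⥤ Scheme.{u}} (η : D ⟶ G.DX) : D ⟶ (Functor.const J).obj (G.DX.obj G.top) where
  app j := η.app j ≫ G.DX.map (G.htop.from j)
  naturality j k a := by
    rw [← Category.assoc, η.naturality, Category.assoc, ← G.DX.map_comp, G.htop.hom_ext (a ≫ G.htop.from k) (G.htop.from j)]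
    exact (Category.comp_id _).symm

theorem exists_glueAt (c' : G.P' ⟶ G.cW.pt) (hc' : c' ≫ G.π = pullback.snd _ _) :
    ∃ j, Nonempty (G.GlueAt c' j) := by
  haveI := G.lfp
  haveI : ∀ {j k : J} (a : j ⟶ k), IsAffineHom (G.PD.map a) := fun a => G.affP a
  haveI : ∀ j, CompactSpace (G.PD.obj j) := fun j => by
    haveI := G.cpW j; haveI := G.cpX j; haveI := G.qsS j
    exact compactSpace_pair _ _ j
  haveI : ∀ j, QuasiSeparatedSpace (G.PD.obj j) := fun j => by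
    haveI := G.qsW j; haveI := G.qsX j; haveI := G.qsS j
    exact quasiSeparatedSpace_pair _ _ j
  obtain ⟨j, f, hf, hfw⟩ := Scheme.exists_π_app_comp_eq_of_locallyOfFinitePresentation G.PD
    (G.toTop (pairSnd (G.ω ≫ G.γ) G.γ)) (G.ω.app G.top) G.cP
    (pairIsLimit _ _ _ _ _ _ _ _ _ G.hW G.hX G.hS) (c' ≫ G.cW.π.app G.top) (by
      ext j
      show G.pπ j ≫ (pullback.snd _ _ ≫ G.DX.map (G.htop.from j)) = (c' ≫ G.cW.π.app G.top) ≫ G.ω.app G.top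
      rw [← Category.assoc, pπ_snd, Category.assoc, G.cX.w, Category.assoc, ← G.hπ, reassoc_of% hc'])
  refine ⟨j, ⟨(G.sqW (G.htop.from j)).lift f (pullback.snd _ _) hfw, IsPullback.lift_snd _ _ _ _, ?_⟩⟩
  refine (G.sqW (G.htop.from j)).hom_ext ?_ ?_
  · rw [Category.assoc, IsPullback.lift_fst, Category.assoc, G.cW.w]
    exact hf
  · rw [Category.assoc, IsPullback.lift_snd, pπ_snd, Category.assoc, ← G.hπ, reassoc_of% hc']

variable {c' : G.P' ⟶ G.cW.pt} (hc' : c' ≫ G.π = pullback.snd _ _)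

theorem exists_isSelf {j : J} (K : G.GlueAt c' j)
    (h : pullback.lift (f := G.π ≫ G.g) (g := G.g) (𝟙 _) G.π (Category.id_comp _) ≫ c' = 𝟙 _) :
    ∃ (k : J) (a : k ⟶ j), (K.push hc' a).IsSelf := by
  haveI := G.lfp
  haveI : ∀ {j k : J} (a : j ⟶ k), IsAffineHom (G.DW.map a) := fun a => G.affW a
  haveI := G.cpW
  let δ : G.DW.obj j ⟶ G.P j := G.pt (𝟙 _) (G.ω.app j) (by simp)
  have hδ : G.cW.π.app j ≫ δ =
      pullback.lift (f := G.π ≫ G.g) (g := G.g) (𝟙 _) G.π (Category.id_comp _) ≫ G.pπ j := by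
    apply pullback.hom_ext
    · simp [δ, pπ_fst]
      exact (Category.id_comp _).symm
    · simp [δ, pπ_snd, G.hπ]
  obtain ⟨k, a, e⟩ := Scheme.exists_hom_comp_eq_comp_of_locallyOfFiniteType G.DW (G.toTop G.ω)
    (G.ω.app G.top) G.cW G.hW (i := j) ((δ ≫ K.c) ≫ G.DW.map (G.htop.from j)) (G.DW.map (G.htop.from j))
    (by
      show G.ω.app j ≫ G.DX.map (G.htop.from j) = _
      rw [Category.assoc, (G.sqW (G.htop.from j)).w, ← Category.assoc, Category.assoc δ, K.w, pullback.lift_snd])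
    ((G.sqW (G.htop.from j)).w.symm)
    (by
      rw [← Category.assoc, ← Category.assoc, hδ, Category.assoc _ (G.pπ j), K.compat, reassoc_of% h])
  refine ⟨k, a, fun T x => ?_⟩
  refine (G.sqW a).hom_ext ?_ (GlueAt.pt_c_w _ _ _ _)
  rw [GlueAt.pt_push_map]
  refine (G.sqW (G.htop.from j)).hom_ext ?_ ?_
  · have := congrArg (x ≫ ·) e
    simp only [← Category.assoc] at this
    refine Eq.trans ?_ this
    congr 2
    rw [comp_pt]
    refine pt_congr (Category.comp_id _).symm ?_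
    rw [Category.assoc, Category.assoc, (G.sqW a).w]
  · rw [GlueAt.pt_c_w, Category.assoc, Category.assoc, (G.sqW a).w]

theorem exists_isComp {j : J} (K : G.GlueAt c' j)
    (h : ∀ ⦃T : Scheme.{u}⦄ (a : T ⟶ G.cW.pt) (x₁ x₂ : T ⟶ G.cX.pt) (h₁ : a ≫ G.π ≫ G.g = x₁ ≫ G.g)
      (h₂ : a ≫ G.π ≫ G.g = x₂ ≫ G.g) (h₁₂ : (pullback.lift a x₁ h₁ ≫ c') ≫ G.π ≫ G.g = x₂ ≫ G.g),
      pullback.lift (pullback.lift a x₁ h₁ ≫ c') x₂ h₁₂ ≫ c' = pullback.lift a x₂ h₂ ≫ c') :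
    ∃ (k : J) (a : k ⟶ j), (K.push hc' a).IsComp := by
  haveI := G.lfp
  let β : G.PD ⟶ G.DS := pairFst (G.ω ≫ G.γ) G.γ ≫ G.ω ≫ G.γ
  let T := pairD β G.γ
  have hβ : ∀ l, (pullback.fst (G.π ≫ G.g) G.g ≫ G.π ≫ G.g) ≫ G.cS.π.app l = G.pπ l ≫ β.app l := fun l => by
    show _ = G.pπ l ≫ pullback.fst _ _ ≫ (G.ω ≫ G.γ).app l
    rw [reassoc_of% (G.pπ_fst l)]
    simp only [Category.assoc]
    rw [← G.hαP l, Category.assoc]
  let cT := pairCone β G.γ G.cP G.cX G.cS _ G.g hβ G.hg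
  have hcT : IsLimit cT := pairIsLimit β G.γ G.cP G.cX G.cS _ G.g hβ G.hg
    (pairIsLimit _ _ _ _ _ _ _ _ _ G.hW G.hX G.hS) G.hX G.hS
  haveI : ∀ {l m : J} (a : l ⟶ m), IsAffineHom (T.map a) := fun a =>
    isAffineHom_pairMap β G.γ (fun b => G.affP b) G.affX G.affS a
  haveI : ∀ l, CompactSpace (T.obj l) := fun l => by
    haveI := G.cpW l; haveI := G.cpX l; haveI := G.qsS l
    haveI : CompactSpace (G.PD.obj l) := compactSpace_pair _ _ l
    exact compactSpace_pair _ _ l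
  let q : T.obj j ⟶ G.P j := pullback.fst _ _
  let a₀ : T.obj j ⟶ G.DW.obj j := q ≫ pullback.fst _ _
  let x₁ : T.obj j ⟶ G.DX.obj j := q ≫ pullback.snd _ _
  let x₂ : T.obj j ⟶ G.DX.obj j := pullback.snd _ _
  have h₂ : a₀ ≫ G.ω.app j ≫ G.γ.app j = x₂ ≫ G.γ.app j := by
    simp only [a₀, q, Category.assoc]
    exact pullback.condition
  have h₁ : a₀ ≫ G.ω.app j ≫ G.γ.app j = x₁ ≫ G.γ.app j := by
    simp only [a₀, x₁, Category.assoc]
    exact congrArg (q ≫ ·) pullback.condition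
  have hq : G.pt a₀ x₁ h₁ = q := by
    apply pullback.hom_ext <;> simp [a₀, x₁]
  have h₁₂ : (q ≫ K.c) ≫ G.ω.app j ≫ G.γ.app j = x₂ ≫ G.γ.app j := by
    rw [← Category.assoc, Category.assoc q, K.w, ← h₂, h₁]
  let e₁ : T.obj j ⟶ G.DW.obj j := G.pt (q ≫ K.c) x₂ h₁₂ ≫ K.c
  let e₂ : T.obj j ⟶ G.DW.obj j := G.pt a₀ x₂ h₂ ≫ K.c
  obtain ⟨k, f, e⟩ := Scheme.exists_hom_comp_eq_comp_of_locallyOfFiniteType T (G.toTop (pairSnd β G.γ))
    (G.ω.app G.top) cT hcT (i := j) (e₁ ≫ G.DW.map (G.htop.from j)) (e₂ ≫ G.DW.map (G.htop.from j))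
    (by
      show x₂ ≫ G.DX.map (G.htop.from j) = _
      rw [Category.assoc, (G.sqW (G.htop.from j)).w, ← Category.assoc, GlueAt.pt_c_w])
    (by
      show x₂ ≫ G.DX.map (G.htop.from j) = _
      rw [Category.assoc, (G.sqW (G.htop.from j)).w, ← Category.assoc, GlueAt.pt_c_w])
    (by
      simp only [← Category.assoc]
      congr 1
      let u : cT.pt ⟶ G.P' := pullback.fst _ _
      let A : cT.pt ⟶ G.cW.pt := u ≫ pullback.fst _ _
      let X₁ : cT.pt ⟶ G.cX.pt := u ≫ pullback.snd _ _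
      let X₂ : cT.pt ⟶ G.cX.pt := pullback.snd _ _
      have hu : cT.π.app j ≫ q = u ≫ G.pπ j := pairCone_fst _ _ _ _ _ _ _ _ _ j
      have hx₂ : cT.π.app j ≫ x₂ = X₂ ≫ G.cX.π.app j := pairCone_snd _ _ _ _ _ _ _ _ _ j
      have ha₀ : cT.π.app j ≫ a₀ = A ≫ G.cW.π.app j := by
        rw [← Category.assoc, hu, Category.assoc, pπ_fst, ← Category.assoc]
      have H₂ : A ≫ G.π ≫ G.g = X₂ ≫ G.g := by
        simp only [A, u, Category.assoc]
        exact pullback.condition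
      have H₁ : A ≫ G.π ≫ G.g = X₁ ≫ G.g := by
        simp only [A, X₁, Category.assoc]
        exact congrArg (u ≫ ·) pullback.condition
      have hu' : pullback.lift A X₁ H₁ = u := by apply pullback.hom_ext <;> simp [A, X₁]
      have H₁₂ : (u ≫ c') ≫ G.π ≫ G.g = X₂ ≫ G.g := by
        rw [← Category.assoc, Category.assoc u, hc', ← H₂, H₁]
      have key : ∀ (a : T.obj j ⟶ G.DW.obj j) (x : T.obj j ⟶ G.DX.obj j) (ha) (A' : cT.pt ⟶ G.cW.pt)
          (X' : cT.pt ⟶ G.cX.pt) (hA), cT.π.app j ≫ a = A' ≫ G.cW.π.app j →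
          cT.π.app j ≫ x = X' ≫ G.cX.π.app j →
          cT.π.app j ≫ G.pt a x ha ≫ K.c = (pullback.lift A' X' hA ≫ c') ≫ G.cW.π.app j := by
        intro a x ha A' X' hA ea ex
        rw [Category.assoc, ← K.compat, ← Category.assoc, ← Category.assoc]
        congr 1
        apply pullback.hom_ext
        · rw [Category.assoc, pullback.lift_fst, ea, Category.assoc, pπ_fst, pullback.lift_fst_assoc]
        · rw [Category.assoc, pullback.lift_snd, ex, Category.assoc, pπ_snd, pullback.lift_snd_assoc]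
      have hqc : cT.π.app j ≫ q ≫ K.c = (u ≫ c') ≫ G.cW.π.app j := by
        rw [← Category.assoc, hu, Category.assoc, K.compat, Category.assoc]
      rw [key _ _ _ _ _ H₁₂ hqc hx₂, key _ _ _ _ _ H₂ ha₀ hx₂]
      congr 1
      refine Eq.trans ?_ (h A X₁ X₂ H₁ H₂ (by rw [hu']; exact H₁₂))
      congr 2
      exact hu'.symm ▸ rfl)
  refine ⟨k, f, fun T' a y₁ y₂ g₁ g₂ g₁₂ => ?_⟩
  refine (G.sqW f).hom_ext ?_ ((GlueAt.pt_c_w _ _ _ _).trans (GlueAt.pt_c_w _ _ _ _).symm)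
  refine ((GlueAt.pt_push_map K f _ y₂ g₁₂).trans ?_).trans (GlueAt.pt_push_map K f a y₂ g₂).symm
  refine (G.sqW (G.htop.from j)).hom_ext ?_ ((GlueAt.pt_c_w _ _ _ _).trans (GlueAt.pt_c_w _ _ _ _).symm)
  let σ : T' ⟶ T.obj k := pullback.lift (G.pt a y₁ g₁) y₂ (by
    show G.pt a y₁ g₁ ≫ pullback.fst _ _ ≫ G.ω.app k ≫ G.γ.app k = _
    rw [pullback.lift_fst_assoc]
    exact g₂)
  have hσq : (σ ≫ T.map f) ≫ q = G.pt (a ≫ G.DW.map f) (y₁ ≫ G.DX.map f) (pt_map_cond f g₁) := by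
    rw [← pt_map, Category.assoc, show T.map f ≫ q = pullback.fst _ _ ≫ G.PD.map f from pullback.lift_fst _ _ _,
      pullback.lift_fst_assoc]
  have hσx : (σ ≫ T.map f) ≫ x₂ = y₂ ≫ G.DX.map f := by
    rw [Category.assoc, show T.map f ≫ x₂ = pullback.snd _ _ ≫ G.DX.map f from pullback.lift_snd _ _ _,
      pullback.lift_snd_assoc]
  have hσa : (σ ≫ T.map f) ≫ a₀ = a ≫ G.DW.map f := by
    rw [← Category.assoc, hσq, pullback.lift_fst]
  have := congrArg (σ ≫ ·) e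
  simp only [← Category.assoc] at this
  refine Eq.trans ?_ (this.trans ?_)
  · congr 1
    rw [← Category.assoc]
    congr 1
    rw [comp_pt]
    congr 1
    · rw [GlueAt.pt_push_map, ← Category.assoc, hσq]
    · exact hσx.symm
  · congr 1
    rw [← Category.assoc]
    congr 1
    rw [comp_pt]
    congr 1

include hc' in
/-- A gluing morphism with the cocycle condition exists at some stage. -/
theorem exists_glue
    (h₁ : pullback.lift (f := G.π ≫ G.g) (g := G.g) (𝟙 _) G.π (Category.id_comp _) ≫ c' = 𝟙 _)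
    (h₂ : ∀ ⦃T : Scheme.{u}⦄ (a : T ⟶ G.cW.pt) (x₁ x₂ : T ⟶ G.cX.pt) (e₁ : a ≫ G.π ≫ G.g = x₁ ≫ G.g)
      (e₂ : a ≫ G.π ≫ G.g = x₂ ≫ G.g) (e₁₂ : (pullback.lift a x₁ e₁ ≫ c') ≫ G.π ≫ G.g = x₂ ≫ G.g),
      pullback.lift (pullback.lift a x₁ e₁ ≫ c') x₂ e₁₂ ≫ c' = pullback.lift a x₂ e₂ ≫ c') :
    ∃ (j : J) (K : G.GlueAt c' j), K.IsSelf ∧ K.IsComp := by
  obtain ⟨j₁, ⟨K₁⟩⟩ := G.exists_glueAt c' hc'
  obtain ⟨j₂, a₂, hK₂⟩ := G.exists_isSelf hc' K₁ h₁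
  obtain ⟨j₃, a₃, hK₃⟩ := G.exists_isComp hc' (K₁.push hc' a₂) h₂
  exact ⟨j₃, _, hK₂.push a₃, hK₃⟩

end GSys

end SubmEffLib
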