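import Mathlib

/-!
# Fibre products of affine systems
-/

set_option autoImplicit false
set_option linter.style.haveILetI false
set_option backward.isDefEq.respectTransparency false
set_option backward.isDefEq.respectTransparency.types false

universe u

open CategoryTheory CategoryTheory.Limits AlgebraicGeometry

noncomputable section

namespace SubmEffLib

variable {J : Type u} [SmallCategory J] {A B C : J ⥤ Scheme.{u}} (α : A ⟶ C) (β : B ⟶ C)

/-- The diagram of fibre products. -/
def pairD : J ⥤ Scheme.{u} where
  obj j := pullback (α.app j) (β.app j)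
  map {j k} a := pullback.map (α.app j) (β.app j) (α.app k) (β.app k) (A.map a) (B.map a) (C.map a)
    (α.naturality a).symm (β.naturality a).symm
  map_id j := by apply pullback.hom_ext <;> simp
  map_comp {i j k} a b := by apply pullback.hom_ext <;> simp

/-- The first projection. -/
def pairFst : pairD α β ⟶ A where
  app j := pullback.fst (α.app j) (β.app j)
  naturality j k a := pullback.lift_fst _ _ _

/-- The second projection. -/
def pairSnd : pairD α β ⟶ B where
  app j := pullback.snd (α.app j) (β.app j)
  naturality j k a := pullback.lift_snd _ _ _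

theorem isAffineHom_pairMap (hA : ∀ {j k : J} (a : j ⟶ k), IsAffineHom (A.map a))
    (hB : ∀ {j k : J} (a : j ⟶ k), IsAffineHom (B.map a)) (hC : ∀ {j k : J} (a : j ⟶ k), IsAffineHom (C.map a))
    {j k : J} (a : j ⟶ k) : IsAffineHom ((pairD α β).map a) := by
  haveI := hC a
  have e₁ : α.app j ≫ C.map a = A.map a ≫ α.app k := (α.naturality a).symm
  have e₂ : β.app j ≫ C.map a = B.map a ≫ β.app k := (β.naturality a).symm
  have h := MorphismProperty.pullbackMap (P := @IsAffineHom) (hA a) (hB a) e₁ e₂
  have e : (pairD α β).map a = pullback.mapDesc (α.app j) (β.app j) (C.map a) ≫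
      pullback.map (α.app j ≫ C.map a) (β.app j ≫ C.map a) (α.app k) (β.app k) (A.map a) (B.map a) (𝟙 _)
        ((Category.comp_id _).trans e₁) ((Category.comp_id _).trans e₂) := by
    show pullback.map (α.app j) (β.app j) (α.app k) (β.app k) (A.map a) (B.map a) (C.map a) e₁ e₂ = _
    apply pullback.hom_ext <;> simp [pullback.mapDesc]
  rw [e]
  haveI := h
  infer_instance

variable (cA : Cone A) (cB : Cone B) (cC : Cone C) (a : cA.pt ⟶ cC.pt) (b : cB.pt ⟶ cC.pt)
  (ha : ∀ j, a ≫ cC.π.app j = cA.π.app j ≫ α.app j) (hb : ∀ j, b ≫ cC.π.app j = cB.π.app j ≫ β.app j)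

/-- The cone on the fibre products. -/
def pairCone : Cone (pairD α β) where
  pt := pullback a b
  π :=
  { app := fun j => pullback.map a b (α.app j) (β.app j) (cA.π.app j) (cB.π.app j) (cC.π.app j) (ha j) (hb j)
    naturality := fun j k f => by
      refine (Category.id_comp _).trans ?_
      apply pullback.hom_ext
      · simp [pairD]
      · simp [pairD] }

theorem pairCone_fst (j : J) :
    (pairCone α β cA cB cC a b ha hb).π.app j ≫ pullback.fst (α.app j) (β.app j) =
      pullback.fst a b ≫ cA.π.app j :=
  pullback.lift_fst _ _ _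

theorem pairCone_snd (j : J) :
    (pairCone α β cA cB cC a b ha hb).π.app j ≫ pullback.snd (α.app j) (β.app j) =
      pullback.snd a b ≫ cB.π.app j :=
  pullback.lift_snd _ _ _

/-- The limit of fibre products is the fibre product of the limits. -/
def pairIsLimit (hA : IsLimit cA) (hB : IsLimit cB) (hC : IsLimit cC) :
    IsLimit (pairCone α β cA cB cC a b ha hb) where
  lift s := pullback.lift (hA.lift ((Cone.postcompose (pairFst α β)).obj s))
    (hB.lift ((Cone.postcompose (pairSnd α β)).obj s)) (hC.hom_ext fun j => by
      rw [Category.assoc, ha, Category.assoc, hb, ← Category.assoc, ← Category.assoc, hA.fac, hB.fac]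
      show (s.π.app j ≫ pullback.fst _ _) ≫ _ = (s.π.app j ≫ pullback.snd _ _) ≫ _
      rw [Category.assoc, pullback.condition, Category.assoc])
  fac s j := by
    apply pullback.hom_ext
    · rw [Category.assoc, pairCone_fst, pullback.lift_fst_assoc, hA.fac]
      rfl
    · rw [Category.assoc, pairCone_snd, pullback.lift_snd_assoc, hB.fac]
      rfl
  uniq s m hm := by
    apply pullback.hom_ext
    · rw [pullback.lift_fst]
      refine hA.hom_ext fun j => ?_
      rw [hA.fac]
      show _ = s.π.app j ≫ pullback.fst _ _
      rw [← hm j, Category.assoc, Category.assoc, pairCone_fst]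
    · rw [pullback.lift_snd]
      refine hB.hom_ext fun j => ?_
      rw [hB.fac]
      show _ = s.π.app j ≫ pullback.snd _ _
      rw [← hm j, Category.assoc, Category.assoc, pairCone_snd]

theorem compactSpace_pair (j : J) [CompactSpace (A.obj j)] [CompactSpace (B.obj j)]
    [QuasiSeparatedSpace (C.obj j)] : CompactSpace ((pairD α β).obj j) := by
  haveI : QuasiCompact (pullback.fst (α.app j) (β.app j)) :=
    MorphismProperty.pullback_fst (P := @QuasiCompact) _ _ inferInstance
  exact QuasiCompact.compactSpace_of_compactSpace (pullback.fst (α.app j) (β.app j))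

theorem quasiSeparatedSpace_pair (j : J) [QuasiSeparatedSpace (A.obj j)] [QuasiSeparatedSpace (B.obj j)]
    [QuasiSeparatedSpace (C.obj j)] : QuasiSeparatedSpace ((pairD α β).obj j) := by
  haveI : QuasiSeparated (β.app j) := QuasiSeparated.of_quasiSeparatedSpace _
  haveI : QuasiSeparated (pullback.fst (α.app j) (β.app j)) :=
    MorphismProperty.pullback_fst (P := @QuasiSeparated) _ _ inferInstance
  exact quasiSeparatedSpace_of_quasiSeparated (pullback.fst (α.app j) (β.app j))

end SubmEffLib
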