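import Groth.Agent.SubmEffLib.Basic
import Groth.Agent.SubmEffLib.ClosedFibre
import Groth.Agent.SubmDescLib.Effective
import Groth.Agent.VCovLib.SubtrNoeth
import Groth.Agent.RzLib.SubtrRefine

/-!
# Effective étale descent along universally submersive morphisms of finite type over Noetherian bases
-/

set_option autoImplicit false
set_option linter.style.haveILetI false
set_option backward.isDefEq.respectTransparency false
set_option backward.isDefEq.respectTransparency.types false

universe u

open CategoryTheory CategoryTheory.Limits AlgebraicGeometry TopologicalSpace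

namespace SubmEffLib

open Desc DescLib SubmDescLib

/-- Étale descent data relative to a proper surjective morphism to a complete Noetherian local scheme with
algebraically closed residue field have étale quotients. -/
theorem exists_isQuot_complete_proper (B : Type u) [CommRing B] [IsNoetherianRing B] [IsLocalRing B]
    [IsAdicComplete (IsLocalRing.maximalIdeal B) B] [IsAlgClosed (IsLocalRing.ResidueField B)]
    {X : Scheme.{u}} (g : X ⟶ Spec (CommRingCat.of B)) [IsProper g] [Surjective g] (D : SchDD g)
    [QuasiCompact D.obj.hom] [IsSeparated D.obj.hom] [Etale D.obj.hom] :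
    ∃ (U : Scheme.{u}) (v : U ⟶ Spec (CommRingCat.of B)) (q : D.obj.left ⟶ U),
      Etale v ∧ IsQuot D (𝟙 _) v q := by
  generalize hd : ringKrullDim B = d
  induction d using WellFoundedLT.induction generalizing B X with
  | ind d IH =>
    have hg := univSubmersive_of_universallyClosed_surjective g
    haveI : HenselianLocalRing B := HenselLib.henselianLocalRing_of_henselianRing
    let S := Spec (CommRingCat.of B)
    refine exists_isQuot_glue D hg fun v => ?_
    let a : S := (D.obj.hom ≫ g) v
    by_cases ha : a = IsLocalRing.closedPoint B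
    · exact exists_goodEt_closedFibre_proper D v ha
    have hne : a.asIdeal ≠ IsLocalRing.maximalIdeal B := fun e => ha (PrimeSpectrum.ext e)
    have hlt : a.asIdeal < IsLocalRing.maximalIdeal B := (IsLocalRing.le_maximalIdeal a.isPrime.ne_top).lt_of_ne hne
    let O := S.presheaf.stalk a
    letI algO : Algebra B O := StructureSheaf.stalkAlgebra B a
    haveI : IsLocalization.AtPrime O a.asIdeal := StructureSheaf.IsLocalization.to_stalk B a
    haveI : IsNoetherianRing O := IsLocalization.isNoetherianRing a.asIdeal.primeCompl O inferInstance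
    let K := AlgebraicClosure (IsLocalRing.ResidueField O)
    obtain ⟨B', _, _, _, _, hflat, hmax, hN, e, -⟩ := GonfLib.exists_local_extension_residueField (A := O) K
    haveI := hN inferInstance
    let C := AdicCompletion (IsLocalRing.maximalIdeal B') B'
    haveI : IsNoetherianRing C := AdicRingLib.isNoetherianRing_adicCompletion _
    haveI : IsAlgClosed (IsLocalRing.ResidueField C) :=
      IsAlgClosed.of_ringEquiv K _
        (e.symm.trans (RingEquiv.ofBijective _ (AdicCompletion.residueField_map_bijective B')))
    haveI : Module.Flat B' C := AdicCompletion.flat_of_isNoetherian _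
    have hC : ringKrullDim C < d := by
      rw [CohenLib.ringKrullDim_eq_of_flat_unramified B' C AdicCompletion.maximalIdeal_eq_map.symm,
        CohenLib.ringKrullDim_eq_of_flat_unramified O B' hmax,
        IsLocalization.AtPrime.ringKrullDim_eq_height a.asIdeal O, ← hd,
        ← IsLocalRing.maximalIdeal_height_eq_ringKrullDim]
      exact_mod_cast Ideal.height_strict_mono_of_isPrime_of_isPrime hlt
    obtain ⟨hf₁, hs₁⟩ := flat_surjective_SpecMap (A := O) (B := B')
    obtain ⟨hf₂, hs₂⟩ := flat_surjective_SpecMap (A := B') (B := C)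
    let φ₁ : Spec (CommRingCat.of B') ⟶ Spec O := Spec.map (CommRingCat.ofHom (algebraMap O B'))
    let φ₂ : Spec (CommRingCat.of C) ⟶ Spec (CommRingCat.of B') := Spec.map (CommRingCat.ofHom (algebraMap B' C))
    haveI : Flat φ₁ := hf₁
    haveI : Surjective φ₁ := hs₁
    haveI : Flat φ₂ := hf₂
    haveI : Surjective φ₂ := hs₂
    haveI : QuasiCompact (φ₂ ≫ φ₁) := inferInstance
    let s' : Spec (CommRingCat.of C) ⟶ S := (φ₂ ≫ φ₁) ≫ S.fromSpecStalk a
    let D₀ := (SchDDFam.ofSchDD.{0} g).obj D
    let D' := sdd (pullFam D₀ s')
    haveI : IsSeparated (sdd D₀).obj.hom := ‹IsSeparated D.obj.hom›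
    haveI : QuasiCompact (sdd D₀).obj.hom := ‹QuasiCompact D.obj.hom›
    haveI : Etale (sdd D₀).obj.hom := ‹Etale D.obj.hom›
    haveI : Etale D'.obj.hom := inferInstanceAs (Etale (pullback.snd (sdd D₀).obj.hom (pullback.fst g s')))
    haveI : QuasiCompact D'.obj.hom :=
      inferInstanceAs (QuasiCompact (pullback.snd (sdd D₀).obj.hom (pullback.fst g s')))
    haveI : IsSeparated D'.obj.hom :=
      inferInstanceAs (IsSeparated (pullback.snd (sdd D₀).obj.hom (pullback.fst g s')))
    obtain ⟨U, w, q, hw, hq⟩ := IH _ hC C (pullback.snd g s') D' rfl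
    obtain ⟨q', hq'⟩ := qAt_of_isQuot hq
    obtain ⟨W, haW, hW⟩ := exists_open_of_hasEt_stalk hg
      (hasEt_of_ff_extension (D := D₀) (S.fromSpecStalk a) (φ₂ ≫ φ₁) rfl hg ⟨U, w, q', hw, hq'⟩)
    obtain ⟨O', hO', hgood⟩ := goodEt_of_hasEt hW
    exact ⟨O', hO'.ge (show v ∈ (D.obj.hom ≫ g) ⁻¹' (W : Set S) from haW), hgood⟩

/-- Étale, separated, quasi-compact descent data along universally submersive morphisms of finite type to a
locally Noetherian scheme are effective. -/
theorem effective_noetherian {X S : Scheme.{u}} [IsLocallyNoetherian S] (g : X ⟶ S) (hg : SGA1.UnivSubmersive g)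
    [LocallyOfFiniteType g] [QuasiCompact g] (D : SchDD g) [QuasiCompact D.obj.hom] [IsSeparated D.obj.hom]
    [Etale D.obj.hom] :
    ∃ U : Over S, QuasiCompact U.hom ∧ IsSeparated U.hom ∧ Etale U.hom ∧
      Nonempty ((Desc.toDD g).obj U ≅ D) := by
  refine effective_of_complete g hg D ?_
  intro B _ _ _ _ _ s D' _ _ _
  have hgB : SGA1.UnivSubmersive (pullback.snd g s) := MorphismProperty.pullback_snd g s hg
  haveI := LocallyOfFiniteType.isLocallyNoetherian (pullback.snd g s)
  haveI : LocallyOfFinitePresentation (pullback.snd g s) :=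
    LocallyOfFinitePresentation.iff_locallyOfFiniteType.mpr inferInstance
  obtain ⟨X', Y', h, p, q, -, hpq, hps, hpc, hloc, hq, hqs, -⟩ := RzLib.exists_refinement_openCover_proper
    (pullback.snd g s) ((VCovLib.univSubmersive_iff_univSSubtrusive _).1 hgB)
  haveI := hps; haveI := hq; haveI := hqs
  refine exists_isQuot_of_hasEt D' hgB q (univSubmersive_of_universallyClosed_surjective q)
    (hasEt_of_openCover_refinement D' hgB h p q hpq hloc) fun E hE₁ hE₂ hE₃ => ?_
  haveI := hE₁; haveI := hE₂; haveI := hE₃ inferInstance inferInstance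
  exact exists_isQuot_complete_proper B q E

end SubmEffLib
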